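import Mathlib.Analysis.Convex.Combination
import Mathlib.LinearAlgebra.Dual.Lemmas
import Mathlib.LinearAlgebra.BilinearForm.Properties
import Mathlib.Tactic.LinearCombination

/-! Farkas' lemma and nearest points of polytopes over an ordered field. -/

set_option autoImplicit false

open Module Set

namespace Groth.Agent.RootChLib

universe v w

variable {R : Type v} [Field R] [LinearOrder R] [IsStrictOrderedRing R]
variable {W : Type w} [AddCommGroup W] [Module R W]

/-- Farkas' lemma. -/
theorem farkas : ∀ (n : ℕ) (a : Fin n → Dual R W) (b : Dual R W),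
    (∀ x, (∀ i, a i x ≤ 0) → b x ≤ 0) →
      ∃ c : Fin n → R, (∀ i, 0 ≤ c i) ∧ b = ∑ i, c i • a i := by
  intro n
  induction n with
  | zero =>
    intro a b h
    refine ⟨fun i => 0, fun i => le_rfl, LinearMap.ext fun x => ?_⟩
    have h1 := h x (fun i => i.elim0)
    have h2 := h (-x) (fun i => i.elim0)
    rw [map_neg] at h2
    simp only [Fin.sum_univ_zero, LinearMap.zero_apply]
    linarith
  | succ n ih =>
    intro a b h
    by_cases hc : ∀ x, (∀ i : Fin n, a i.castSucc x ≤ 0) → b x ≤ 0
    · obtain ⟨c, hc0, hce⟩ := ih (fun i => a i.castSucc) b hc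
      refine ⟨Fin.snoc c 0, fun i => ?_, ?_⟩
      · refine Fin.lastCases ?_ (fun j => ?_) i <;> simp [hc0]
      · simp [Fin.sum_univ_castSucc, hce]
    · push Not at hc
      obtain ⟨x₁, hx₁, hbx₁⟩ := hc
      have hα : 0 < a (Fin.last n) x₁ := by
        by_contra hle
        exact not_lt.2 (h x₁ fun i => Fin.lastCases (not_lt.1 hle) (fun j => hx₁ j) i) hbx₁
      set x₀ := (a (Fin.last n) x₁)⁻¹ • x₁ with hx₀
      have hone : a (Fin.last n) x₀ = 1 := by
        rw [hx₀, map_smul, smul_eq_mul, inv_mul_cancel₀ hα.ne']
      have hle : ∀ i : Fin n, a i.castSucc x₀ ≤ 0 := fun i => by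
        rw [hx₀, map_smul, smul_eq_mul]
        exact mul_nonpos_of_nonneg_of_nonpos (inv_nonneg.2 hα.le) (hx₁ i)
      have hb₀ : 0 < b x₀ := by
        rw [hx₀, map_smul, smul_eq_mul]
        exact mul_pos (inv_pos.2 hα) hbx₁
      obtain ⟨c, hc0, hce⟩ := ih (fun i => a i.castSucc - a i.castSucc x₀ • a (Fin.last n))
        (b - b x₀ • a (Fin.last n)) (fun x hx => by
          have h1 := h (x - a (Fin.last n) x • x₀) fun i => Fin.lastCases (by simp [hone])
            (fun j => by
              have := hx j
              simp only [LinearMap.sub_apply, LinearMap.smul_apply, smul_eq_mul] at this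
              simp only [map_sub, map_smul, smul_eq_mul]
              linarith) i
          simp only [map_sub, map_smul, smul_eq_mul] at h1
          simp only [LinearMap.sub_apply, LinearMap.smul_apply, smul_eq_mul]
          linarith)
      refine ⟨Fin.snoc c (b x₀ - ∑ i, c i * a i.castSucc x₀), fun i => ?_, ?_⟩
      · refine Fin.lastCases ?_ (fun j => ?_) i
        · simp only [Fin.snoc_last]
          have : ∑ i, c i * a i.castSucc x₀ ≤ 0 :=
            Finset.sum_nonpos fun i _ => mul_nonpos_of_nonneg_of_nonpos (hc0 i) (hle i)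
          linarith
        · simp [hc0]
      · simp only [Fin.sum_univ_castSucc, Fin.snoc_castSucc, Fin.snoc_last]
        refine LinearMap.ext fun x => ?_
        have := LinearMap.congr_fun hce x
        simp only [LinearMap.sub_apply, LinearMap.smul_apply, smul_eq_mul, LinearMap.sum_apply,
          mul_sub, Finset.sum_sub_distrib] at this
        simp only [LinearMap.add_apply, LinearMap.smul_apply, smul_eq_mul, LinearMap.sum_apply,
          sub_mul, Finset.sum_mul]
        rw [show ∑ i, c i * a i.castSucc x₀ * a (Fin.last n) x =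
          ∑ i, c i * (a i.castSucc x₀ * a (Fin.last n) x) from
          Finset.sum_congr rfl fun i _ => mul_assoc _ _ _]
        linarith

/-- A vector lies in the convex hull of a finite family if no linear functional separates it. -/
theorem mem_convexHull_of_forall {V : Type*} [AddCommGroup V] [Module R V] {M : Type*}
    [AddCommGroup M] [Module R M] (L : M →ₗ[R] V →ₗ[R] R)
    (hL : ∀ y z : V, (∀ ξ, L ξ y = L ξ z) → y = z) {κ : Type*} [Finite κ] (p : κ → V) (x : V)
    (h : ∀ ξ, ∃ k, L ξ (p k) ≤ L ξ x) : x ∈ convexHull R (Set.range p) := by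
  classical
  cases nonempty_fintype κ
  let e := (Fintype.equivFin κ).symm
  let F : V → Dual R (M × R) := fun y => LinearMap.coprod (L.flip y) LinearMap.id
  obtain ⟨c, hc0, hce⟩ := farkas (Fintype.card κ) (fun i => F (p (e i))) (F x) (by
    rintro ⟨ξ, s⟩ hle
    obtain ⟨k, hk⟩ := h (-ξ)
    obtain ⟨i, rfl⟩ := e.surjective k
    have := hle i
    simp only [F, LinearMap.coprod_apply, LinearMap.flip_apply, LinearMap.id_apply] at this ⊢
    simp only [map_neg, LinearMap.neg_apply, neg_le_neg_iff] at hk
    linarith)
  have hsum : ∑ i, c i = 1 := by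
    have h1 := LinearMap.congr_fun hce ((0 : M), (1 : R))
    simpa [F] using h1.symm
  have hx : x = ∑ i, c i • p (e i) := hL _ _ fun ξ => by
    have h1 := LinearMap.congr_fun hce (ξ, (0 : R))
    simp [F] at h1
    simpa using h1
  rw [hx]
  exact (convex_convexHull R _).sum_mem (fun i _ => hc0 i) hsum
    (fun i _ => subset_convexHull R _ ⟨_, rfl⟩)

/-- A positive definite form attains its minimum on a polytope. -/
theorem exists_min_on_convexHull {V : Type*} [AddCommGroup V] [Module R V]
    (B : LinearMap.BilinForm R V) (hBs : ∀ y z, B y z = B z y) (hBp : ∀ y, y ≠ 0 → 0 < B y y)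
    (s : Finset V) (hne : s.Nonempty) :
    ∃ y ∈ convexHull R (s : Set V), ∀ x ∈ convexHull R (s : Set V), B y y ≤ B x x := by
  classical
  induction s using Finset.strongInduction with
  | H s ih =>
    obtain ⟨a₀, ha₀⟩ := hne
    have hnn : ∀ z, 0 ≤ B z z := fun z => by
      rcases eq_or_ne z 0 with rfl | hz
      · simp
      · exact (hBp z hz).le
    let L : Submodule R V := Submodule.span R ((fun a => a - a₀) '' (s : Set V))
    have : Module.Finite R L :=
      Module.Finite.span_of_finite R ((s.finite_toSet).image _)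
    let T : L →ₗ[R] Dual R L := (B.restrict L : LinearMap.BilinForm R L)
    have hTi : Function.Injective T := (injective_iff_map_eq_zero T).2 fun l hl => by
      by_contra hne
      exact (hBp l fun e => hne (Subtype.ext e)).ne' (LinearMap.congr_fun hl l)
    obtain ⟨l, hl⟩ := (LinearMap.injective_iff_surjective_of_finrank_eq_finrank
      Subspace.dual_finrank_eq.symm).1 hTi (-((B a₀).comp L.subtype))
    set p : V := a₀ + (l : V) with hp
    have horth : ∀ a ∈ s, B p a = B p a₀ := fun a ha => by
      have h1 := LinearMap.congr_fun hl ⟨a - a₀, Submodule.subset_span ⟨a, ha, rfl⟩⟩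
      change B (l : V) (a - a₀) = -(B a₀ (a - a₀)) at h1
      rw [← sub_eq_zero, ← map_sub, hp, map_add, LinearMap.add_apply, h1, add_neg_cancel]
    obtain ⟨v, hvsum, hv⟩ : ∃ v : V → R, ∑ a ∈ s, v a = 1 ∧ ∑ a ∈ s, v a • a = p := by
      obtain ⟨c, hc⟩ : ∃ c : V → R, ∑ a ∈ s, c a • (a - a₀) = l := by
        have hmem : (l : V) ∈ Submodule.span R ((fun a => a - a₀) '' (s : Set V)) := l.2
        generalize (l : V) = z at hmem ⊢
        induction hmem using Submodule.span_induction with
        | mem z hz =>
          obtain ⟨a, ha, rfl⟩ := hz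
          exact ⟨fun b => if b = a then 1 else 0, by
            rw [Finset.sum_eq_single a (fun b _ hb => by simp [hb]) (fun h => absurd ha h)]; simp⟩
        | zero => exact ⟨0, by simp⟩
        | add y z _ _ hy hz =>
          obtain ⟨c, hc⟩ := hy
          obtain ⟨c', hc'⟩ := hz
          exact ⟨c + c', by simp [add_smul, Finset.sum_add_distrib, hc, hc']⟩
        | smul r y _ hy =>
          obtain ⟨c, hc⟩ := hy
          exact ⟨r • c, by simp [← hc, Finset.smul_sum, mul_smul]⟩
      refine ⟨fun a => c a + if a = a₀ then 1 - ∑ b ∈ s, c b else 0, ?_, ?_⟩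
      · rw [Finset.sum_add_distrib, Finset.sum_ite_eq', if_pos ha₀]; ring
      · simp only [add_smul, ite_smul, zero_smul, Finset.sum_add_distrib, Finset.sum_ite_eq',
          if_pos ha₀]
        rw [hp, ← hc]
        simp only [smul_sub, Finset.sum_sub_distrib, ← Finset.sum_smul]
        module
    have hpp : B p p = B p a₀ := by
      calc B p p = B p (∑ a ∈ s, v a • a) := by rw [hv]
        _ = ∑ a ∈ s, v a • B p a₀ := by
            rw [map_sum]; exact Finset.sum_congr rfl fun a ha => by rw [map_smul, horth a ha]
        _ = B p a₀ := by rw [← Finset.sum_smul, hvsum, one_smul]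
    have hpx : ∀ x, (∃ u : V → R, ∑ a ∈ s, u a = 1 ∧ ∑ a ∈ s, u a • a = x) →
        B p x = B p p := by
      rintro x ⟨u, hu, rfl⟩
      rw [map_sum, hpp, Finset.sum_congr rfl fun a ha => by rw [map_smul, horth a ha],
        ← Finset.sum_smul, hu, one_smul]
    have hsq : ∀ x, B p x = B p p → B x x = B p p + B (x - p) (x - p) := fun x hx => by
      simp only [map_sub, LinearMap.sub_apply, hBs x p, hx]
      ring
    by_cases hpc : p ∈ convexHull R (s : Set V)
    · refine ⟨p, hpc, fun x hx => ?_⟩
      obtain ⟨u, -, hu, hux⟩ := Finset.mem_convexHull'.1 hx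
      have := hsq x (hpx x ⟨u, hu, hux⟩)
      linarith [hnn (x - p)]
    · have hcand : ∀ x ∈ convexHull R (s : Set V), ∃ a ∈ s, (s.erase a).Nonempty ∧
          ∃ z ∈ convexHull R ((s.erase a : Finset V) : Set V), B z z ≤ B x x := by
        intro x hx
        obtain ⟨u, hu0, hu, hux⟩ := Finset.mem_convexHull'.1 hx
        obtain ⟨a₁, ha₁, hva₁⟩ : ∃ a ∈ s, v a < 0 := by
          by_contra! hall
          exact hpc (Finset.mem_convexHull'.2 ⟨v, hall, hvsum, hv⟩)
        let S := s.filter fun a => v a < 0
        obtain ⟨a, haS, hamin⟩ := S.exists_min_image (fun a => u a / (u a - v a))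
          ⟨a₁, Finset.mem_filter.2 ⟨ha₁, hva₁⟩⟩
        obtain ⟨has, hva⟩ := Finset.mem_filter.1 haS
        set t := u a / (u a - v a) with ht
        have hden : 0 < u a - v a := by linarith [hu0 a has]
        have ht0 : 0 ≤ t := div_nonneg (hu0 a has) hden.le
        have ht1 : t ≤ 1 := (div_le_one hden).2 (by linarith)
        let wz : V → R := fun b => (1 - t) * u b + t * v b
        have hwa : wz a = 0 := by
          have : t * (u a - v a) = u a := div_mul_cancel₀ _ hden.ne'
          simp only [wz]
          linarith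
        have hw0 : ∀ b ∈ s, 0 ≤ wz b := fun b hb => by
          by_cases hvb : v b < 0
          · have h1 : t ≤ u b / (u b - v b) := hamin b (Finset.mem_filter.2 ⟨hb, hvb⟩)
            rw [le_div_iff₀ (by linarith [hu0 b hb] : (0 : R) < u b - v b)] at h1
            simp only [wz]
            linarith
          · exact add_nonneg (mul_nonneg (by linarith) (hu0 b hb)) (mul_nonneg ht0 (not_lt.1 hvb))
        have hws : ∑ b ∈ s, wz b = 1 := by
          simp only [wz, Finset.sum_add_distrib, ← Finset.mul_sum, hu, hvsum]
          ring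
        have hws' : ∑ b ∈ s.erase a, wz b = 1 := by
          rw [Finset.sum_erase _ hwa, hws]
        have hwx : ∑ b ∈ s.erase a, wz b • b = (1 - t) • x + t • p := by
          rw [Finset.sum_erase _ (by rw [hwa, zero_smul]), ← hux, ← hv, Finset.smul_sum,
            Finset.smul_sum, ← Finset.sum_add_distrib]
          exact Finset.sum_congr rfl fun b _ => by simp only [wz, add_smul, smul_smul]
        refine ⟨a, has, ?_, (1 - t) • x + t • p, Finset.mem_convexHull'.2
          ⟨wz, fun b hb => hw0 b (Finset.mem_of_mem_erase hb), hws', hwx⟩, ?_⟩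
        · rw [Finset.nonempty_iff_ne_empty]
          intro he
          rw [he] at hws'
          simp at hws'
        · have h1 := hsq x (hpx x ⟨u, hu, hux⟩)
          have h2 := hsq ((1 - t) • x + t • p) (by
            simp only [map_add, map_smul, smul_eq_mul, hpx x ⟨u, hu, hux⟩]; ring)
          have h3 : (1 - t) • x + t • p - p = (1 - t) • (x - p) := by module
          rw [h3, map_smul, map_smul, LinearMap.smul_apply, smul_eq_mul, smul_eq_mul] at h2
          rw [h2, h1]
          nlinarith [hnn (x - p), mul_nonneg (mul_nonneg ht0 (by linarith : (0 : R) ≤ 2 - t)) (hnn (x - p))]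
      obtain ⟨a₂, ha₂, hne₂, -⟩ := hcand a₀ (subset_convexHull R _ ha₀)
      let A := s.filter fun a => (s.erase a).Nonempty
      have hy : ∀ a ∈ A, ∃ y ∈ convexHull R ((s.erase a : Finset V) : Set V),
          ∀ x ∈ convexHull R ((s.erase a : Finset V) : Set V), B y y ≤ B x x := fun a ha =>
        ih _ (Finset.erase_ssubset (Finset.mem_filter.1 ha).1) (Finset.mem_filter.1 ha).2
      choose! Y hY1 hY2 using hy
      obtain ⟨a, ha, hamin⟩ := A.exists_min_image (fun a => B (Y a) (Y a))
        ⟨a₂, Finset.mem_filter.2 ⟨ha₂, hne₂⟩⟩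
      refine ⟨Y a, convexHull_mono (Finset.coe_subset.2 (Finset.erase_subset _ _)) (hY1 a ha),
        fun x hx => ?_⟩
      obtain ⟨b, hb, hbne, z, hz, hzx⟩ := hcand x hx
      exact (hamin b (Finset.mem_filter.2 ⟨hb, hbne⟩)).trans
        ((hY2 b (Finset.mem_filter.2 ⟨hb, hbne⟩) z hz).trans hzx)

end Groth.Agent.RootChLib
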