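import Groth.Prelude.Def_RootCh
import Mathlib.LinearAlgebra.RootSystem.BaseExists

/-! Bases, positivity and generic vectors for root systems over an ordered field. -/

set_option autoImplicit false

open Module Set
open RootPairing

namespace Groth.Agent.RootChLib

universe u v w x

variable {ι : Type u} {R : Type v} {M : Type w} {N : Type x}
variable [Field R] [LinearOrder R] [IsStrictOrderedRing R]
variable [AddCommGroup M] [Module R M] [AddCommGroup N] [Module R N] [Finite ι]
variable {P : RootPairing ι R M N} [P.IsRootSystem] [P.IsCrystallographic] [P.IsReduced]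

/-- The index of the opposite root. -/
abbrev ng (P : RootPairing ι R M N) (i : ι) : ι := P.reflectionPerm i i

omit [LinearOrder R] [IsStrictOrderedRing R] [Finite ι] [P.IsRootSystem] [P.IsCrystallographic] [P.IsReduced] in
lemma root'_ng (i : ι) (y : N) : P.root' (ng P i) y = -P.root' i y := by
  simp [ng, RootPairing.root', P.root_reflectionPerm]

omit [LinearOrder R] [IsStrictOrderedRing R] [Finite ι] [P.IsRootSystem] [P.IsCrystallographic] [P.IsReduced] in
lemma coroot'_ng (i : ι) (ξ : M) : P.coroot' (ng P i) ξ = -P.coroot' i ξ := by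
  simp [ng, RootPairing.coroot', P.coroot_reflectionPerm]

omit [LinearOrder R] [IsStrictOrderedRing R] [Finite ι] [P.IsRootSystem] [P.IsCrystallographic] [P.IsReduced] in
lemma root_ng (i : ι) : P.root (ng P i) = -P.root i := by simp [ng, P.root_reflectionPerm]

omit [Finite ι] [P.IsRootSystem] [P.IsCrystallographic] [P.IsReduced] in
lemma isPos_ng_iff (b : P.Base) (i : ι) : b.IsPos (ng P i) ↔ ¬ b.IsPos i :=
  RootPairing.Base.IsPos.neg_iff_not b i

omit [P.IsCrystallographic] [P.IsReduced] in
/-- The polarization, as an equivalence compatible with signs against roots and coroots. -/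
lemma exists_pol (P : RootPairing ι R M N) [P.IsRootSystem] : ∃ e : M ≃ₗ[R] N, ∃ q : ι → R,
    (∀ i, 0 < q i) ∧ (∀ i, P.coroot i = q i • e (P.root i)) ∧
      ∀ i ξ, P.coroot' i ξ = q i * P.root' i (e ξ) := by
  cases nonempty_fintype ι
  have hq : ∀ i, 0 < P.RootForm (P.root i) (P.root i) := fun i =>
    P.rootForm_pos_of_ne_zero (Submodule.subset_span (mem_range_self i)) (P.ne_zero i)
  refine ⟨P.PolarizationEquiv, fun i => 2 / P.RootForm (P.root i) (P.root i),
    fun i => div_pos two_pos (hq i), fun i => P.coroot_eq_polarizationEquiv_apply_root i,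
    fun i ξ => ?_⟩
  have h1 : P.coroot' i ξ = (2 / P.RootForm (P.root i) (P.root i)) *
      P.toLinearMap ξ (P.PolarizationEquiv (P.root i)) := by
    change P.toLinearMap ξ (P.coroot i) = _
    rw [P.coroot_eq_polarizationEquiv_apply_root i, map_smul, smul_eq_mul]
  rw [h1]
  congr 1
  have hsym : ∀ x y : M, P.toLinearMap x (P.PolarizationEquiv y) = P.RootForm y x := fun x y => by
    rw [P.polarizationEquiv_apply, ← P.toLinearMap_apply_apply_Polarization]
  change _ = P.toLinearMap (P.root i) (P.PolarizationEquiv ξ)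
  rw [hsym, hsym]
  exact P.rootForm_symmetric.eq _ _

omit [LinearOrder R] [IsStrictOrderedRing R] [Finite ι] [P.IsCrystallographic] [P.IsReduced] in
lemma toCoweightBasis_sum (b : P.Base) (f : ι → R) :
    ∑ j ∈ b.support, f j • P.coroot j = ∑ j : b.support, f j • b.toCoweightBasis j := by
  rw [← Finset.sum_coe_sort]
  simp

omit [P.IsCrystallographic] [P.IsReduced] in
/-- A positive root has positive height for the dual base. -/
lemma isPos_flip_of_isPos (b : P.Base) {i : ι} (hi : b.IsPos i) : b.flip.IsPos i := by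
  classical
  obtain ⟨e, q, hq, he, -⟩ := exists_pol P
  obtain ⟨f, hf₀, hf₁, hf₂⟩ := b.exists_root_eq_sum_int i
  have hfpos : 0 < f := hf₁.resolve_right fun h => by
    have hh : b.height i ≤ 0 := by
      rw [RootPairing.Base.height_eq_sum hf₂]
      exact Finset.sum_nonpos fun j _ => h.le j
    exact not_lt.2 hh hi
  obtain ⟨g, -, hg₁, hg₂⟩ := b.flip.exists_root_eq_sum_int i
  change P.coroot i = ∑ j ∈ b.support, g j • P.coroot j at hg₂
  have key : ∑ j ∈ b.support, ((g j : R) - q i * (f j : R) / q j) • P.coroot j = 0 := by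
    simp only [sub_smul, Finset.sum_sub_distrib, Int.cast_smul_eq_zsmul, ← hg₂, sub_eq_zero]
    rw [he i, hf₂, map_sum, Finset.smul_sum]
    refine Finset.sum_congr rfl fun j _ => ?_
    rw [map_zsmul, he j, ← Int.cast_smul_eq_zsmul R, smul_smul, smul_smul,
      div_mul_cancel₀ _ (hq j).ne']
  have hcoef : ∀ j ∈ b.support, (g j : R) - q i * (f j : R) / q j = 0 :=
    linearIndepOn_finset_iff.1 b.linearIndepOn_coroot _ key
  have hg : ∀ j ∈ b.support, 0 ≤ g j := fun j hj => by
    have h : (0 : R) ≤ q i * (f j : R) / q j :=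
      div_nonneg (mul_nonneg (hq i).le (Int.cast_nonneg (hfpos.le j))) (hq j).le
    rw [← sub_eq_zero.1 (hcoef j hj)] at h
    exact_mod_cast h
  rw [RootPairing.Base.isPos_iff', RootPairing.Base.height_eq_sum (b := b.flip) hg₂]
  exact Finset.sum_nonneg hg

omit [P.IsCrystallographic] [P.IsReduced] in
lemma isPos_flip_iff (b : P.Base) (i : ι) : b.flip.IsPos i ↔ b.IsPos i :=
  ⟨fun h => isPos_flip_of_isPos b.flip h, isPos_flip_of_isPos b⟩

omit [Finite ι] [P.IsRootSystem] [P.IsCrystallographic] [P.IsReduced] in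
/-- A vector pairing non-negatively with the simple roots pairs non-negatively with positive roots. -/
lemma root'_nonneg (b : P.Base) {y : N} (hy : ∀ j ∈ b.support, 0 ≤ P.root' j y) {i : ι}
    (hi : b.IsPos i) : 0 ≤ P.root' i y := by
  obtain ⟨f, -, hf₁, hf₂⟩ := b.exists_root_eq_sum_int i
  have hfpos : 0 < f := hf₁.resolve_right fun h => by
    have hh : b.height i ≤ 0 := by
      rw [RootPairing.Base.height_eq_sum hf₂]
      exact Finset.sum_nonpos fun j _ => h.le j
    exact not_lt.2 hh hi
  change 0 ≤ P.toLinearMap (P.root i) y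
  rw [hf₂, map_sum, LinearMap.sum_apply]
  refine Finset.sum_nonneg fun j hj => ?_
  rw [map_zsmul, LinearMap.smul_apply, zsmul_eq_mul]
  exact mul_nonneg (Int.cast_nonneg (hfpos.le j)) (hy j hj)

omit [P.IsCrystallographic] [P.IsReduced] in
lemma coroot'_nonneg (b : P.Base) {ξ : M} (hξ : ∀ j ∈ b.support, 0 ≤ P.coroot' j ξ) {i : ι}
    (hi : b.IsPos i) : 0 ≤ P.coroot' i ξ :=
  root'_nonneg b.flip (y := ξ) hξ (isPos_flip_of_isPos b hi)

/-- The simple roots are determined by the positive roots. -/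
lemma mem_support_iff (b : P.Base) (i : ι) : i ∈ b.support ↔
    b.IsPos i ∧ ∀ j k, b.IsPos j → b.IsPos k → P.root i ≠ P.root j + P.root k := by
  refine ⟨fun hi => ⟨RootPairing.Base.isPos_of_mem_support hi, fun j k hj hk h => ?_⟩,
    fun ⟨hi, h⟩ => ?_⟩
  · have := b.height_add h
    rw [RootPairing.Base.height_one_of_mem_support hi] at this
    rw [RootPairing.Base.isPos_iff] at hj hk
    omega
  · by_contra hns
    obtain ⟨j, hj, hpos⟩ := hi.exists_mem_support_pos_pairingIn
    rw [P.zero_lt_pairingIn_iff'] at hpos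
    have hij : i ≠ j := fun e => hns (e ▸ hj)
    obtain ⟨k, hk⟩ := P.root_sub_root_mem_of_pairingIn_pos hpos hij
    exact h k j (hi.sub hj hk) (RootPairing.Base.isPos_of_mem_support hj) (by rw [hk]; abel)

lemma base_eq {b b' : P.Base} (h : ∀ i, b.IsPos i ↔ b'.IsPos i) : b = b' := by
  have hs : b.support = b'.support := by
    ext i
    simp only [mem_support_iff, h]
  cases b; cases b'
  simp only at hs
  subst hs
  rfl

/-- The base attached to a regular vector of `N`. -/
lemma exists_base_of_regular (y : N) (hy : ∀ i, P.root' i y ≠ 0) :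
    ∃ b : P.Base, ∀ i, b.IsPos i ↔ 0 < P.root' i y := by
  cases nonempty_fintype ι
  let _i := P.indexNeg
  let f : Dual R M := P.toLinearMap.flip y
  have hf : ∀ i, f (P.root i) ≠ 0 := hy
  have hli := P.linearIndepOn_root_baseOf' (S := R) f hf
  have hsp : ∀ i, P.root i ∈ AddSubmonoid.closure (P.root '' IsAddIndecomposable.baseOf P.root (f : M →+ R)) ∨
      -P.root i ∈ AddSubmonoid.closure (P.root '' IsAddIndecomposable.baseOf P.root (f : M →+ R)) :=
    fun i => IsAddIndecomposable.mem_or_neg_mem_closure_baseOf P.root (f : M →+ R) i (hf i) (by simp)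
  let b := RootPairing.Base.mk' P _ hli hsp
  have hsimple : ∀ j ∈ b.support, 0 < P.root' j y := fun j hj =>
    ((Set.toFinite _).mem_toFinset.1 hj).1
  have key : ∀ i, b.IsPos i → 0 < P.root' i y := fun i hi =>
    lt_of_le_of_ne (root'_nonneg b (fun j hj => (hsimple j hj).le) hi) (hy i).symm
  refine ⟨b, fun i => ⟨key i, fun h => ?_⟩⟩
  by_contra hn
  have h2 := key _ ((isPos_ng_iff b i).2 hn)
  rw [root'_ng] at h2
  linarith

/-- The base attached to a regular vector of `M`. -/
lemma exists_base_of_regular' (ξ : M) (hξ : ∀ i, P.coroot' i ξ ≠ 0) :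
    ∃ b : P.Base, ∀ i, b.IsPos i ↔ 0 < P.coroot' i ξ := by
  obtain ⟨b, hb⟩ := exists_base_of_regular (P := P.flip) ξ hξ
  exact ⟨b.flip, fun i => (isPos_flip_iff b i).trans (hb i)⟩

/-- A regular vector dominating the signs of two vectors, in lexicographic order. -/
lemma exists_eps (a c : ι → R) :
    ∃ ε : R, 0 < ε ∧ ∀ i, a i ≠ 0 → ε * |c i| < |a i| := by
  classical
  cases nonempty_fintype ι
  let s := (Finset.univ.filter fun i : ι => a i ≠ 0).image fun i => |a i| / (|c i| + 1)
  have hs : ∀ r ∈ insert 1 s, (0 : R) < r := by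
    intro r hr
    rcases Finset.mem_insert.1 hr with rfl | hr
    · exact one_pos
    · obtain ⟨i, hi, rfl⟩ := Finset.mem_image.1 hr
      exact div_pos (abs_pos.2 (Finset.mem_filter.1 hi).2) (by positivity)
  refine ⟨(insert 1 s).min' (Finset.insert_nonempty _ _), hs _ (Finset.min'_mem _ _), fun i hi => ?_⟩
  have hle : (insert 1 s).min' (Finset.insert_nonempty _ _) ≤ |a i| / (|c i| + 1) :=
    Finset.min'_le _ _ (Finset.mem_insert_of_mem
      (Finset.mem_image.2 ⟨i, Finset.mem_filter.2 ⟨Finset.mem_univ i, hi⟩, rfl⟩))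
  have hpos := hs _ (Finset.min'_mem _ (Finset.insert_nonempty _ _))
  have hc : (0 : R) < |c i| + 1 := by positivity
  rw [le_div_iff₀ hc] at hle
  nlinarith [abs_nonneg (c i)]

lemma exists_regular : ∃ ξ : M, ∀ i, P.coroot' i ξ ≠ 0 := by
  classical
  obtain ⟨b₀⟩ : Nonempty P.Base := P.nonempty_base
  refine ⟨∑ j : b₀.support, RootCh.fundWeight b₀ j, fun i => ?_⟩
  obtain ⟨g, -, -, hg₂⟩ := b₀.flip.exists_root_eq_sum_int i
  have hh : b₀.flip.height i = ∑ j ∈ b₀.support, g j :=
    RootPairing.Base.height_eq_sum (b := b₀.flip) hg₂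
  change P.coroot i = ∑ j ∈ b₀.support, g j • P.coroot j at hg₂
  have hone : ∀ k ∈ b₀.support,
      P.toLinearMap (∑ j : b₀.support, RootCh.fundWeight b₀ j) (P.coroot k) = 1 := fun k hk => by
    rw [map_sum, LinearMap.sum_apply, Finset.sum_eq_single (⟨k, hk⟩ : b₀.support)]
    · exact RootCh.coroot'_fundWeight_self b₀ ⟨k, hk⟩
    · exact fun j _ hj => RootCh.coroot'_fundWeight_of_ne b₀ j ⟨k, hk⟩ hj.symm
    · simp
  have : P.coroot' i (∑ j : b₀.support, RootCh.fundWeight b₀ j) = (b₀.flip.height i : R) := by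
    change P.toLinearMap _ (P.coroot i) = _
    rw [hg₂, map_sum, hh, Int.cast_sum]
    exact Finset.sum_congr rfl fun k hk => by rw [map_zsmul, hone k hk, zsmul_one]
  rw [this, Int.cast_ne_zero]
  exact b₀.flip.height_ne_zero i

/-- A base whose positive roots are non-negative on `ξ`, and on `η` where `ξ` vanishes. -/
lemma exists_base_lex (ξ η : M) : ∃ b : P.Base, ∀ i, b.IsPos i →
    0 ≤ P.coroot' i ξ ∧ (P.coroot' i ξ = 0 → 0 ≤ P.coroot' i η) := by
  obtain ⟨θ, hθ⟩ := exists_regular (P := P)
  obtain ⟨δ, hδ, hδ'⟩ := exists_eps (fun i => P.coroot' i η) (fun i => P.coroot' i θ)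
  obtain ⟨ε, hε, hε'⟩ := exists_eps (fun i => P.coroot' i ξ) (fun i => P.coroot' i (η + δ • θ))
  have hη : ∀ i, P.coroot' i (η + δ • θ) ≠ 0 ∧
      (0 < P.coroot' i (η + δ • θ) → 0 ≤ P.coroot' i η) := fun i => by
    rw [map_add, map_smul, smul_eq_mul]
    rcases eq_or_ne (P.coroot' i η) 0 with h | h
    · rw [h, zero_add]; exact ⟨mul_ne_zero hδ.ne' (hθ i), fun _ => le_rfl⟩
    · have h2 := hδ' i h
      rw [← abs_of_pos hδ, ← abs_mul] at h2
      obtain ⟨h3, h4⟩ := abs_le.1 (le_refl |δ * P.coroot' i θ|)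
      rcases lt_or_gt_of_ne h with h' | h'
      · rw [abs_of_neg h'] at h2
        exact ⟨by linarith, fun _ => by linarith⟩
      · rw [abs_of_pos h'] at h2
        exact ⟨by linarith, fun _ => h'.le⟩
  have key : ∀ i, P.coroot' i (ξ + ε • (η + δ • θ)) ≠ 0 ∧
      (0 < P.coroot' i (ξ + ε • (η + δ • θ)) →
        0 ≤ P.coroot' i ξ ∧ (P.coroot' i ξ = 0 → 0 ≤ P.coroot' i η)) := fun i => by
    obtain ⟨hne, hpos⟩ := hη i
    rw [map_add, map_smul, smul_eq_mul]
    rcases eq_or_ne (P.coroot' i ξ) 0 with h | h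
    · rw [h, zero_add]
      exact ⟨mul_ne_zero hε.ne' hne, fun hp => ⟨le_rfl, fun _ => hpos (pos_of_mul_pos_right hp hε.le)⟩⟩
    · have h2 := hε' i h
      rw [← abs_of_pos hε, ← abs_mul] at h2
      obtain ⟨h3, h4⟩ := abs_le.1 (le_refl |ε * P.coroot' i (η + δ • θ)|)
      rcases lt_or_gt_of_ne h with h' | h'
      · rw [abs_of_neg h'] at h2
        exact ⟨by linarith, fun _ => by linarith⟩
      · rw [abs_of_pos h'] at h2
        exact ⟨by linarith, fun _ => ⟨h'.le, fun e => absurd e h⟩⟩
  obtain ⟨b, hb⟩ := exists_base_of_regular' _ fun i => (key i).1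
  exact ⟨b, fun i hi => (key i).2 ((hb i).1 hi)⟩

/-- The base obtained by reflecting in a simple root. -/
lemma exists_reflect (b : P.Base) {j : ι} (hj : j ∈ b.support) :
    ∃ b' : P.Base, ∀ i, b'.IsPos i ↔ (b.IsPos i ∧ i ≠ j) ∨ i = ng P j := by
  classical
  cases nonempty_fintype ι
  obtain ⟨y₀, hy₀⟩ : ∃ y₀ : N, y₀ = ∑ k : b.support, RootCh.fundCoweight b k := ⟨_, rfl⟩
  have hone : ∀ k ∈ b.support, P.root' k y₀ = 1 := fun k hk => by
    rw [hy₀, map_sum, Finset.sum_eq_single (⟨k, hk⟩ : b.support)]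
    · exact RootCh.root'_fundCoweight_self b ⟨k, hk⟩
    · exact fun l _ hl => RootCh.root'_fundCoweight_of_ne b l ⟨k, hk⟩ hl.symm
    · simp
  have hval : ∀ i, P.root' i y₀ = (b.height i : R) := fun i => by
    obtain ⟨g, -, -, hg₂⟩ := b.exists_root_eq_sum_int i
    rw [RootPairing.Base.height_eq_sum hg₂, Int.cast_sum]
    change P.toLinearMap (P.root i) y₀ = _
    rw [hg₂, map_sum, LinearMap.sum_apply]
    exact Finset.sum_congr rfl fun k hk => by
      rw [map_zsmul, LinearMap.smul_apply, show P.toLinearMap (P.root k) y₀ = 1 from hone k hk,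
        zsmul_one]
  have hs : ∀ i, P.root' i (P.coreflection j y₀) = P.root' (P.reflectionPerm j i) y₀ := fun i => by
    simp only [RootPairing.root', P.root_reflectionPerm, RootPairing.reflection_apply,
      RootPairing.coreflection_apply, map_sub, map_smul, LinearMap.sub_apply, LinearMap.smul_apply,
      smul_eq_mul, RootPairing.coroot', LinearMap.flip_apply]
    ring
  obtain ⟨b', hb'⟩ := exists_base_of_regular (P := P) (P.coreflection j y₀) fun i => by
    rw [hs, hval, Int.cast_ne_zero]
    exact b.height_ne_zero _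
  refine ⟨b', fun i => ?_⟩
  rw [hb', hs, hval, Int.cast_pos, ← RootPairing.Base.isPos_iff]
  constructor
  · intro h
    by_cases hi : i = ng P j
    · exact Or.inr hi
    refine Or.inl ⟨?_, ?_⟩
    · have h2 := h.reflectionPerm hj (fun e => hi (by rw [← P.reflectionPerm_self j i, e]))
      rwa [P.reflectionPerm_self] at h2
    · rintro rfl
      exact (isPos_ng_iff b i).1 h (RootPairing.Base.isPos_of_mem_support hj)
  · rintro (⟨h, hne⟩ | rfl)
    · exact h.reflectionPerm hj hne
    · rw [ng, P.reflectionPerm_self]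
      exact RootPairing.Base.isPos_of_mem_support hj

end Groth.Agent.RootChLib
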