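import Groth.Agent.Lib.RootCh.Corner
import Groth.Agent.Lib.RootCh.Convex
import Groth.Prelude.Def_RootCh2

/-! Complementary convex solids: the minimum property, dual solids. -/

set_option autoImplicit false

open Module Set
open RootPairing RootCh

namespace Groth.Agent.RootChLib

universe u v w x

variable {ι : Type u} {R : Type v} {M : Type w} {N : Type x}
variable [Field R] [LinearOrder R] [IsStrictOrderedRing R]
variable [AddCommGroup M] [Module R M] [AddCommGroup N] [Module R N] [Finite ι]
variable {P : RootPairing ι R M N} [P.IsRootSystem] [P.IsCrystallographic] [P.IsReduced]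

omit [LinearOrder R] [IsStrictOrderedRing R] [Finite ι] [P.IsRootSystem] [P.IsCrystallographic] [P.IsReduced] in
lemma eq_of_forall_pairing {y z : N} (h : ∀ ξ, P.toLinearMap ξ y = P.toLinearMap ξ z) : y = z :=
  P.flip.toPerfPair.injective (LinearMap.ext fun ξ => h ξ)

lemma finite_base : Finite P.Base :=
  Finite.of_injective (fun b : P.Base => b.support) fun b b' h => by
    cases b; cases b'
    simp only at h
    subst h
    rfl

variable {d : P.Base → N}

/-- Across a wall, the value of `d` moves along the coroot, in the positive direction. -/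
lemma exists_step (hd : IsCCS d) (b : P.Base) {j : ι} (hj : j ∈ b.support) :
    ∃ b' : P.Base, ∃ t : R, 0 ≤ t ∧
      (∀ i, b'.IsPos i ↔ (b.IsPos i ∧ i ≠ j) ∨ i = ng P j) ∧
      ∀ ξ, P.toLinearMap ξ (d b') = P.toLinearMap ξ (d b) + t * P.coroot' j ξ := by
  classical
  obtain ⟨b', hb'⟩ := exists_reflect b hj
  set J : b.support := ⟨j, hj⟩ with hJ
  have hin : ∀ k : b.support, k ≠ J → fundWeight b k ∈ baseCorners b' := by
    intro k hk
    refine ⟨⟨b, k, rfl⟩, fun i hi => ?_⟩
    rcases (hb' i).1 (RootPairing.Base.isPos_of_mem_support hi) with ⟨hp, -⟩ | rfl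
    · exact coroot'_fundWeight_nonneg b k hp
    · rw [coroot'_ng, show P.coroot' j (fundWeight b k) = 0 from
        coroot'_fundWeight_of_ne b k J hk.symm, neg_zero]
  have hout : fundWeight b J ∉ baseCorners b' := fun h => by
    have h1 := coroot'_nonneg b' h.2 ((hb' (ng P j)).2 (Or.inr rfl))
    rw [coroot'_ng, show P.coroot' j (fundWeight b J) = 1 from coroot'_fundWeight_self b J] at h1
    linarith
  have hinter : baseCorners b ∩ baseCorners b' = fundWeight b '' {J}ᶜ := by
    ext w
    rw [baseCorners_eq b]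
    constructor
    · rintro ⟨⟨k, rfl⟩, hk⟩
      exact ⟨k, fun e => hout (by rw [← e]; exact hk), rfl⟩
    · rintro ⟨k, hk, rfl⟩
      exact ⟨⟨k, rfl⟩, hin k hk⟩
  have hcard : (baseCorners b ∩ baseCorners b').ncard + 1 = b.support.card := by
    rw [hinter, Set.ncard_image_of_injective _ (fundWeight_injective b), Set.ncard_compl,
      Set.ncard_singleton, Nat.card_eq_fintype_card, Fintype.card_coe]
    have : 0 < b.support.card := Finset.card_pos.2 ⟨j, hj⟩
    omega
  have huniq : ∀ i, (b.IsPos i ∧ ¬ b'.IsPos i) ↔ i = j := by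
    intro i
    rw [hb' i]
    refine ⟨fun ⟨h1, h2⟩ => by_contra fun hne => h2 (Or.inl ⟨h1, hne⟩), ?_⟩
    rintro rfl
    refine ⟨RootPairing.Base.isPos_of_mem_support hj, ?_⟩
    rintro (⟨-, h⟩ | h)
    · exact h rfl
    · exact (isPos_ng_iff b i).1 (h ▸ RootPairing.Base.isPos_of_mem_support hj)
        (RootPairing.Base.isPos_of_mem_support hj)
  have hwall := hd.wall_le b b' j hcard huniq
  set t := P.toLinearMap (fundWeight b J) (d b') - P.toLinearMap (fundWeight b J) (d b) with ht
  have heq : ∀ ξ, P.toLinearMap ξ (d b') = P.toLinearMap ξ (d b) + t * P.coroot' j ξ := by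
    intro ξ
    have h1 : P.toLinearMap ξ (d b' - d b) = t * P.coroot' j ξ := by
      conv_lhs => rw [repr_weights b ξ]
      rw [map_sum, LinearMap.sum_apply, Finset.sum_eq_single J]
      · rw [map_smul, LinearMap.smul_apply, smul_eq_mul, map_sub, ← ht, mul_comm]
      · intro k _ hk
        rw [map_smul, LinearMap.smul_apply, map_sub,
          hd.corner_eq b b' _ (fundWeight_mem_baseCorners b k) (hin k hk), sub_self, smul_zero]
      · simp
    rw [map_sub] at h1
    linarith
  refine ⟨b', t, ?_, hb', heq⟩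
  have h2 : P.toLinearMap (P.root j) (d b') = P.toLinearMap (P.root j) (d b) + t * 2 := by
    rw [heq, show P.coroot' j (P.root j) = 2 from P.root_coroot_two j]
  change P.toLinearMap (P.root j) (d b) ≤ P.toLinearMap (P.root j) (d b') at hwall
  linarith

/-- The key property: the corner functional is minimised at the adjacent chamber. -/
lemma corner_le (hd : IsCCS d) (b : P.Base) {w : M} (hw : w ∈ baseCorners b) (c : P.Base) :
    P.toLinearMap w (d b) ≤ P.toLinearMap w (d c) := by
  classical
  cases nonempty_fintype ι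
  suffices H : ∀ (n : ℕ) (c : P.Base),
      (Finset.univ.filter fun i => c.IsPos i ∧ P.coroot' i w < 0).card = n →
        P.toLinearMap w (d b) ≤ P.toLinearMap w (d c) from H _ c rfl
  intro n
  induction n using Nat.strong_induction_on with
  | _ n ih =>
    intro c hn
    by_cases hmem : w ∈ closedChamber c
    · exact (hd.corner_eq b c w hw ⟨hw.1, hmem⟩).le
    obtain ⟨j, hj, hneg⟩ : ∃ j ∈ c.support, P.coroot' j w < 0 := by
      by_contra! h
      exact hmem h
    obtain ⟨c', t, ht, hc', heq⟩ := exists_step hd c hj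
    have hlt : (Finset.univ.filter fun i => c'.IsPos i ∧ P.coroot' i w < 0).card < n := by
      rw [← hn]
      refine Finset.card_lt_card ⟨fun i hi => ?_, fun h => ?_⟩
      · simp only [Finset.mem_filter, Finset.mem_univ, true_and] at hi ⊢
        rcases (hc' i).1 hi.1 with ⟨h1, -⟩ | rfl
        · exact ⟨h1, hi.2⟩
        · rw [coroot'_ng] at hi
          linarith [hi.2]
      · have hj' := @h j (Finset.mem_filter.2 ⟨Finset.mem_univ j, RootPairing.Base.isPos_of_mem_support hj, hneg⟩)
        simp only [Finset.mem_filter, Finset.mem_univ, true_and] at hj'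
        rcases (hc' j).1 hj'.1 with ⟨-, h1⟩ | h1
        · exact h1 rfl
        · exact (isPos_ng_iff c j).1 (h1 ▸ RootPairing.Base.isPos_of_mem_support hj)
            (RootPairing.Base.isPos_of_mem_support hj)
    refine (ih _ hlt c' rfl).trans ?_
    rw [heq w]
    nlinarith [mul_nonneg ht (neg_nonneg.2 hneg.le)]

/-- A dominant functional is minimised at the chamber. -/
lemma dominant_le (hd : IsCCS d) (b : P.Base) {ξ : M} (hξ : ξ ∈ closedChamber b) (c : P.Base) :
    P.toLinearMap ξ (d b) ≤ P.toLinearMap ξ (d c) := by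
  rw [repr_weights b ξ, map_sum, LinearMap.sum_apply, LinearMap.sum_apply]
  refine Finset.sum_le_sum fun i _ => ?_
  rw [map_smul, LinearMap.smul_apply, LinearMap.smul_apply, smul_eq_mul, smul_eq_mul]
  exact mul_le_mul_of_nonneg_left (corner_le hd b (fundWeight_mem_baseCorners b i) c) (hξ i i.2)

omit [Finite ι] [P.IsCrystallographic] [P.IsReduced] [P.IsRootSystem] in
lemma le_of_mem_convexHull {S : Set N} {x : N} (hx : x ∈ convexHull R S) {ξ : M} {r : R}
    (h : ∀ y ∈ S, r ≤ P.toLinearMap ξ y) : r ≤ P.toLinearMap ξ x :=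
  convexHull_min (t := {y | r ≤ P.toLinearMap ξ y}) h
    (convex_halfSpace_ge (LinearMap.isLinear (P.toLinearMap ξ)) r) hx

omit [Finite ι] [P.IsCrystallographic] [P.IsReduced] [P.IsRootSystem] in
lemma eq_of_mem_convexHull {S : Set N} {x : N} (hx : x ∈ convexHull R S) {ξ : M} {r : R}
    (h : ∀ y ∈ S, P.toLinearMap ξ y = r) : P.toLinearMap ξ x = r :=
  convexHull_min (t := {y | P.toLinearMap ξ y = r}) h
    (convex_hyperplane (LinearMap.isLinear (P.toLinearMap ξ)) r) hx

lemma mem_convexHull_image (A : Set P.Base) (x : N)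
    (h : ∀ ξ, ∃ c ∈ A, P.toLinearMap ξ (d c) ≤ P.toLinearMap ξ x) :
    x ∈ convexHull R (d '' A) := by
  have := finite_base (P := P)
  rw [Set.image_eq_range]
  exact mem_convexHull_of_forall P.toLinearMap (fun y z h => eq_of_forall_pairing h) _ x fun ξ => by
    obtain ⟨c, hc, hle⟩ := h ξ
    exact ⟨⟨c, hc⟩, hle⟩

lemma dominant_le_solid (hd : IsCCS d) (b : P.Base) {ξ : M} (hξ : ξ ∈ closedChamber b) {x : N}
    (hx : x ∈ solid d) : P.toLinearMap ξ (d b) ≤ P.toLinearMap ξ x :=
  le_of_mem_convexHull hx (by rintro _ ⟨c, rfl⟩; exact dominant_le hd b hξ c)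

lemma dualSolid_subset_solid (F : Facet P) : dualSolid d F ⊆ solid d :=
  convexHull_mono (Set.image_subset_range _ _)

lemma pairing_eq_of_mem_span_corners (hd : IsCCS d) {F : Facet P} {b b' : P.Base}
    (hb : b ∈ F.cham) (hb' : b' ∈ F.cham) {ξ : M} (hξ : ξ ∈ Submodule.span R F.corners) :
    P.toLinearMap ξ (d b) = P.toLinearMap ξ (d b') := by
  induction hξ using Submodule.span_induction with
  | mem w hw => exact hd.corner_eq b b' w (corners_subset_baseCorners hb hw) (corners_subset_baseCorners hb' hw)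
  | zero => simp
  | add y z _ _ hy hz => simp only [map_add, LinearMap.add_apply, hy, hz]
  | smul r y _ hy => simp only [map_smul, LinearMap.smul_apply, hy]

lemma pairing_eq_of_mem_dualSolid (hd : IsCCS d) {F : Facet P} {b : P.Base} (hb : b ∈ F.cham)
    {x : N} (hx : x ∈ dualSolid d F) {ξ : M} (hξ : ξ ∈ Submodule.span R F.corners) :
    P.toLinearMap ξ x = P.toLinearMap ξ (d b) :=
  eq_of_mem_convexHull hx
    (by rintro _ ⟨c, hc, rfl⟩; exact pairing_eq_of_mem_span_corners hd hc hb hξ)

/-- The dual solid as an intersection of hyperplanes and half-spaces. -/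
lemma dualSolid_eq (hd : IsCCS d) (F : Facet P) :
    dualSolid d F = (⋂ m ∈ F.corners, hyper d m) ∩ ⋂ m ∈ F.corners', halfClosed d m := by
  ext x
  simp only [Set.mem_inter_iff, Set.mem_iInter]
  constructor
  · intro hx
    refine ⟨fun m hm b hb => eq_of_mem_convexHull hx ?_, fun m hm b hb => le_of_mem_convexHull hx ?_⟩
    · rintro _ ⟨c, hc, rfl⟩
      exact hd.corner_eq c b m (corners_subset_baseCorners hc hm) hb
    · rintro _ ⟨c, -, rfl⟩
      exact corner_le hd b hb c
  · rintro ⟨h1, h2⟩
    refine mem_convexHull_image _ x fun ξ => ?_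
    obtain ⟨b, hb, hlex⟩ := exists_cham_lex F ξ
    refine ⟨b, hb, ?_⟩
    rw [repr_weights b ξ, map_sum, LinearMap.sum_apply, LinearMap.sum_apply]
    refine Finset.sum_le_sum fun i _ => ?_
    rw [map_smul, LinearMap.smul_apply, LinearMap.smul_apply, smul_eq_mul, smul_eq_mul]
    by_cases hi : F.sgn i = 0
    · refine mul_le_mul_of_nonneg_left ?_
        (hlex i (RootPairing.Base.isPos_of_mem_support i.2) hi)
      exact h2 _ (Set.mem_biUnion hb (fundWeight_mem_baseCorners b i)) b
        (fundWeight_mem_baseCorners b i)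
    · rw [h1 _ (fundWeight_mem_corners hb hi) b (fundWeight_mem_baseCorners b i)]

/-- The solid is cut out by the corners of all chambers. -/
lemma mem_solid_iff (hd : IsCCS d) (x : N) :
    x ∈ solid d ↔ ∀ b : P.Base, ∀ m ∈ baseCorners b, P.toLinearMap m (d b) ≤ P.toLinearMap m x := by
  refine ⟨fun hx b m hm => dominant_le_solid hd b hm.2 hx, fun h => ?_⟩
  have : x ∈ convexHull R (d '' Set.univ) := mem_convexHull_image _ x fun ξ => by
    obtain ⟨b, hb⟩ := exists_cham (Facet.ofVec P ξ)
    have hξ : ξ ∈ closedChamber b := hb rfl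
    refine ⟨b, trivial, ?_⟩
    rw [repr_weights b ξ, map_sum, LinearMap.sum_apply, LinearMap.sum_apply]
    refine Finset.sum_le_sum fun i _ => ?_
    rw [map_smul, LinearMap.smul_apply, LinearMap.smul_apply, smul_eq_mul, smul_eq_mul]
    exact mul_le_mul_of_nonneg_left (h b _ (fundWeight_mem_baseCorners b i)) (hξ i i.2)
  rwa [Set.image_univ] at this

end Groth.Agent.RootChLib
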