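import Groth.Agent.Lib.RootCh.Basic
import Mathlib.Data.Sign.Basic

/-! Facets, adjacent chambers and corners. -/

set_option autoImplicit false

open Module Set
open RootPairing RootCh

namespace Groth.Agent.RootChLib

universe u v w x

variable {ι : Type u} {R : Type v} {M : Type w} {N : Type x}
variable [Field R] [LinearOrder R] [IsStrictOrderedRing R]
variable [AddCommGroup M] [Module R M] [AddCommGroup N] [Module R N] [Finite ι]
variable {P : RootPairing ι R M N} [P.IsRootSystem] [P.IsCrystallographic] [P.IsReduced]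

lemma sgn_ng (F : Facet P) (i : ι) : F.sgn (ng P i) = -F.sgn i := by
  obtain ⟨ξ, hξ⟩ := F.exists_sgnVec_eq
  rw [← hξ]
  simp only [sgnVec, coroot'_ng, Left.sign_neg]

lemma sgn_ne_neg_iff {F : Facet P} {ξ : M} (hξ : ξ ∈ F.carrier) (i : ι) :
    F.sgn i ≠ -1 ↔ 0 ≤ P.coroot' i ξ := by
  rw [← (hξ : sgnVec P ξ = F.sgn), ← not_lt, ← sign_eq_neg_one_iff]
  rfl

lemma sgn_eq_zero_iff {F : Facet P} {ξ : M} (hξ : ξ ∈ F.carrier) (i : ι) :
    F.sgn i = 0 ↔ P.coroot' i ξ = 0 := by
  rw [← (hξ : sgnVec P ξ = F.sgn)]
  exact sign_eq_zero_iff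

lemma cham_iff (F : Facet P) (b : P.Base) :
    b ∈ F.cham ↔ ∀ i, b.IsPos i → F.sgn i ≠ -1 := by
  constructor
  · intro h i hi
    obtain ⟨ξ, hξ⟩ := F.exists_sgnVec_eq
    exact (sgn_ne_neg_iff hξ i).2 (coroot'_nonneg b (h hξ) hi)
  · exact fun h ξ hξ j hj =>
      (sgn_ne_neg_iff hξ j).1 (h j (RootPairing.Base.isPos_of_mem_support hj))

lemma exists_cham_lex (F : Facet P) (η : M) :
    ∃ b ∈ F.cham, ∀ i, b.IsPos i → F.sgn i = 0 → 0 ≤ P.coroot' i η := by
  obtain ⟨ξ, hξ⟩ := F.exists_sgnVec_eq
  obtain ⟨b, hb⟩ := exists_base_lex (P := P) ξ η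
  exact ⟨b, (cham_iff F b).2 fun i hi => (sgn_ne_neg_iff hξ i).2 (hb i hi).1,
    fun i hi h0 => (hb i hi).2 ((sgn_eq_zero_iff hξ i).1 h0)⟩

lemma exists_cham (F : Facet P) : ∃ b, b ∈ F.cham := by
  obtain ⟨b, hb, -⟩ := exists_cham_lex F 0
  exact ⟨b, hb⟩

lemma sgn_nonneg_of_cham {F : Facet P} {b : P.Base} (hb : b ∈ F.cham) (j : b.support) :
    F.sgn j = 0 ∨ F.sgn j = 1 := by
  have := (cham_iff F b).1 hb j (RootPairing.Base.isPos_of_mem_support j.2)
  revert this
  rcases (F.sgn j).trichotomy with h | h | h <;> simp [h]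

omit [LinearOrder R] [IsStrictOrderedRing R] [Finite ι] [P.IsCrystallographic] [P.IsReduced] in
lemma coroot'_fundWeight (b : P.Base) [DecidableEq b.support] (i j : b.support) :
    P.coroot' j (fundWeight b i) = if j = i then 1 else 0 := by
  split
  · next h => subst h; exact coroot'_fundWeight_self b j
  · next h => exact coroot'_fundWeight_of_ne b i j h

omit [LinearOrder R] [IsStrictOrderedRing R] [Finite ι] [P.IsCrystallographic] [P.IsReduced] in
lemma root'_fundCoweight (b : P.Base) [DecidableEq b.support] (i j : b.support) :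
    P.root' j (fundCoweight b i) = if j = i then 1 else 0 :=
  by
  split
  · next h => subst h; exact root'_fundCoweight_self b j
  · next h => exact root'_fundCoweight_of_ne b i j h

omit [LinearOrder R] [IsStrictOrderedRing R] [Finite ι] [P.IsCrystallographic] [P.IsReduced] in
lemma ext_coroot' (b : P.Base) {ξ η : M}
    (h : ∀ j : b.support, P.coroot' j ξ = P.coroot' j η) : ξ = η := by
  apply P.toPerfPair.injective
  refine b.toCoweightBasis.ext fun j => ?_
  rw [b.toCoweightBasis_apply]
  exact h j

omit [LinearOrder R] [IsStrictOrderedRing R] [Finite ι] [P.IsCrystallographic] [P.IsReduced] in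
lemma ext_root' (b : P.Base) {y z : N}
    (h : ∀ j : b.support, P.root' j y = P.root' j z) : y = z :=
  ext_coroot' (P := P.flip) b.flip h

omit [LinearOrder R] [IsStrictOrderedRing R] [Finite ι] [P.IsCrystallographic] [P.IsReduced] in
lemma repr_weights (b : P.Base) (ξ : M) :
    ξ = ∑ i : b.support, P.coroot' i ξ • fundWeight b i := by
  classical
  refine ext_coroot' b fun j => ?_
  rw [map_sum, Finset.sum_eq_single j]
  · rw [map_smul, coroot'_fundWeight_self, smul_eq_mul, mul_one]
  · intro i _ hij
    rw [map_smul, coroot'_fundWeight_of_ne b i j hij.symm, smul_zero]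
  · simp

omit [LinearOrder R] [IsStrictOrderedRing R] [Finite ι] [P.IsCrystallographic] [P.IsReduced] in
lemma repr_coweights (b : P.Base) (y : N) :
    y = ∑ i : b.support, P.root' i y • fundCoweight b i :=
  repr_weights (P := P.flip) b.flip y

omit [P.IsCrystallographic] [P.IsReduced] in
lemma fundWeight_mem_closedChamber (b : P.Base) (i : b.support) :
    fundWeight b i ∈ closedChamber b := fun j hj => by
  classical
  rw [coroot'_fundWeight b i ⟨j, hj⟩]
  split <;> norm_num

omit [P.IsCrystallographic] [P.IsReduced] in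
lemma coroot'_fundWeight_nonneg (b : P.Base) (i : b.support) {k : ι} (hk : b.IsPos k) :
    0 ≤ P.coroot' k (fundWeight b i) :=
  coroot'_nonneg b (fundWeight_mem_closedChamber b i) hk

omit [P.IsCrystallographic] [P.IsReduced] in
lemma root'_fundCoweight_nonneg (b : P.Base) (i : b.support) {k : ι} (hk : b.IsPos k) :
    0 ≤ P.root' k (fundCoweight b i) :=
  coroot'_fundWeight_nonneg (P := P.flip) b.flip i (isPos_flip_of_isPos b hk)

omit [LinearOrder R] [IsStrictOrderedRing R] [P.IsCrystallographic] [P.IsReduced] in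
lemma fundWeight_ne_zero (b : P.Base) (i : b.support) : fundWeight b i ≠ 0 := fun h => by
  have := coroot'_fundWeight_self b i
  rw [h, map_zero] at this
  exact zero_ne_one this

omit [LinearOrder R] [IsStrictOrderedRing R] [P.IsCrystallographic] [P.IsReduced] in
lemma fundWeight_injective (b : P.Base) : Function.Injective (fundWeight b) := fun i j h => by
  by_contra hne
  have h1 := coroot'_fundWeight_self b i
  rw [h, coroot'_fundWeight_of_ne b j i hne] at h1
  exact zero_ne_one h1

omit [LinearOrder R] [IsStrictOrderedRing R] [Finite ι] [P.IsCrystallographic] [P.IsReduced] in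
lemma linearIndependent_fundWeight (b : P.Base) : LinearIndependent R (fundWeight b) := by
  classical
  rw [Fintype.linearIndependent_iff]
  intro g hg j
  have := congrArg (P.coroot' j) hg
  rw [map_sum, map_zero, Finset.sum_eq_single j] at this
  · rwa [map_smul, coroot'_fundWeight_self, smul_eq_mul, mul_one] at this
  · intro i _ hij
    rw [map_smul, coroot'_fundWeight_of_ne b i j hij.symm, smul_zero]
  · simp

omit [P.IsCrystallographic] [P.IsReduced] in
lemma coroot'_int (b : P.Base) (i : b.support) (k : ι) :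
    ∃ z : ℤ, P.coroot' k (fundWeight b i) = z := by
  classical
  obtain ⟨g, -, -, hg⟩ := b.flip.exists_root_eq_sum_int k
  change P.coroot k = ∑ j ∈ b.support, g j • P.coroot j at hg
  refine ⟨g i, ?_⟩
  change P.toLinearMap (fundWeight b i) (P.coroot k) = _
  rw [hg, map_sum, Finset.sum_eq_single (i : ι)]
  · rw [map_zsmul, show P.toLinearMap (fundWeight b i) (P.coroot i) = 1 from
      coroot'_fundWeight_self b i, zsmul_one]
  · intro j hj hji
    rw [map_zsmul, show P.toLinearMap (fundWeight b i) (P.coroot j) = 0 from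
      coroot'_fundWeight_of_ne b i ⟨j, hj⟩ (fun e => hji (congrArg Subtype.val e)), smul_zero]
  · exact fun h => absurd i.2 h

/-- A fundamental weight lying in a closed chamber is a fundamental weight of that chamber. -/
lemma exists_eq_fundWeight (b b' : P.Base) (k : b'.support)
    (h : fundWeight b' k ∈ closedChamber b) : ∃ i : b.support, fundWeight b i = fundWeight b' k := by
  classical
  set w := fundWeight b' k with hw
  have hwk : P.coroot' k w = 1 := coroot'_fundWeight_self b' k
  have hkpos : b.IsPos k := by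
    by_contra hn
    have h2 := coroot'_nonneg b h ((isPos_ng_iff b (k : ι)).2 hn)
    rw [coroot'_ng, hwk] at h2
    linarith
  have hc : ∀ i : b.support, ∃ z : ℤ, P.coroot' i w = z := fun i => coroot'_int b' k i
  choose c hc using hc
  have hc0 : ∀ i : b.support, 0 ≤ c i := fun i => by
    have := h i i.2
    rw [hc i] at this
    exact_mod_cast this
  have hvanish : ∀ i : b.support, c i ≠ 0 → ∀ l : b'.support, l ≠ k →
      P.coroot' l (fundWeight b i) = 0 := by
    intro i hi l hl
    have key : ∀ p : ι, b.IsPos p → P.coroot' p w = 0 → P.coroot' p (fundWeight b i) = 0 := by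
      intro p hp hp0
      rw [repr_weights b w, map_sum] at hp0
      have hz := (Finset.sum_eq_zero_iff_of_nonneg fun (q : b.support) _ => by
        rw [map_smul, smul_eq_mul]
        exact mul_nonneg (h q q.2) (coroot'_fundWeight_nonneg b q hp)).1 hp0 i (Finset.mem_univ i)
      rw [map_smul, smul_eq_mul, hc i] at hz
      exact (mul_eq_zero.1 hz).resolve_left (Int.cast_ne_zero.2 hi)
    have hl0 : P.coroot' l w = 0 := coroot'_fundWeight_of_ne b' k l hl
    by_cases hp : b.IsPos l
    · exact key l hp hl0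
    · have h2 := key _ ((isPos_ng_iff b (l : ι)).2 hp) (by rw [coroot'_ng, hl0, neg_zero])
      rw [coroot'_ng] at h2
      exact neg_eq_zero.1 h2
  choose t ht using fun i : b.support => coroot'_int b i (k : ι)
  have ht0 : ∀ i, 0 ≤ t i := fun i => by
    have := coroot'_fundWeight_nonneg b i hkpos
    rw [ht i] at this
    exact_mod_cast this
  have hrep : ∀ i : b.support, c i ≠ 0 → fundWeight b i = (t i : R) • w := fun i hi => by
    refine ext_coroot' b' fun l => ?_
    rcases eq_or_ne l k with rfl | hl
    · rw [map_smul, hwk, smul_eq_mul, mul_one, ht]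
    · rw [map_smul, hw, coroot'_fundWeight_of_ne b' k l hl, smul_zero, hvanish i hi l hl]
  have hsum : ∑ i : b.support, c i * t i = 1 := by
    have h1 : P.coroot' k w = ∑ i : b.support, (c i : R) * (t i : R) := by
      conv_lhs => rw [repr_weights b w, map_sum]
      exact Finset.sum_congr rfl fun i _ => by rw [map_smul, smul_eq_mul, hc, ht]
    rw [hwk] at h1
    exact_mod_cast h1.symm
  obtain ⟨i, hi⟩ : ∃ i : b.support, c i * t i ≠ 0 := by
    by_contra! h0
    simp [h0] at hsum
  refine ⟨i, ?_⟩
  have hle : c i * t i ≤ 1 := by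
    rw [← hsum]
    exact Finset.single_le_sum (fun j _ => mul_nonneg (hc0 j) (ht0 j)) (Finset.mem_univ i)
  have hci : 0 < c i := lt_of_le_of_ne (hc0 i) (Ne.symm (left_ne_zero_of_mul hi))
  have hti : 0 < t i := lt_of_le_of_ne (ht0 i) (Ne.symm (right_ne_zero_of_mul hi))
  have h1 : t i = 1 := by nlinarith
  rw [hrep i hci.ne', h1, Int.cast_one, one_smul]

/-- The corners of a chamber are its fundamental weights. -/
lemma baseCorners_eq (b : P.Base) : baseCorners b = Set.range (fundWeight b) := by
  ext w
  constructor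
  · rintro ⟨⟨b', k, rfl⟩, h⟩
    exact exists_eq_fundWeight b b' k h
  · rintro ⟨i, rfl⟩
    exact ⟨⟨b, i, rfl⟩, fundWeight_mem_closedChamber b i⟩

lemma fundWeight_mem_baseCorners (b : P.Base) (i : b.support) :
    fundWeight b i ∈ baseCorners b :=
  ⟨⟨b, i, rfl⟩, fundWeight_mem_closedChamber b i⟩

omit [P.IsCrystallographic] [P.IsReduced] in
lemma sgn_fundCoweight (b : P.Base) (i : b.support) :
    cosgnVec P (fundCoweight b i) = sgnVec P (fundWeight b i) := by
  classical
  obtain ⟨e, q, hq, -, he⟩ := exists_pol P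
  have h : e (fundWeight b i) = (q i)⁻¹ • fundCoweight b i := by
    refine ext_root' b fun j => ?_
    have h1 := he j (fundWeight b i)
    rw [map_smul, root'_fundCoweight, smul_eq_mul]
    rw [coroot'_fundWeight] at h1
    rcases eq_or_ne j i with rfl | hj
    · rw [if_pos rfl] at h1 ⊢
      rw [mul_one]
      exact eq_inv_of_mul_eq_one_right h1.symm
    · rw [if_neg hj] at h1 ⊢
      rw [mul_zero]
      exact (mul_eq_zero.1 h1.symm).resolve_left (hq j).ne'
  funext k
  change SignType.sign (P.root' k (fundCoweight b i)) = SignType.sign (P.coroot' k (fundWeight b i))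
  rw [he k, h, map_smul, smul_eq_mul, sign_mul, sign_pos (hq k), one_mul, sign_mul,
    sign_pos (inv_pos.2 (hq i)), one_mul]

/-- Corresponding fundamental coweights depend only on the fundamental weight. -/
lemma fundCoweight_eq_of (b b' : P.Base) (i : b.support) (k : b'.support)
    (h : fundWeight b i = fundWeight b' k) : fundCoweight b i = fundCoweight b' k := by
  classical
  have hs : cosgnVec P (fundCoweight b' k) = cosgnVec P (fundCoweight b i) := by
    rw [sgn_fundCoweight, sgn_fundCoweight, h]
  obtain ⟨m₀, hm₀⟩ := exists_eq_fundWeight (P := P.flip) b.flip b'.flip k (fun j hj => by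
    have h1 : SignType.sign (P.root' j (fundCoweight b' k)) =
        SignType.sign (P.root' j (fundCoweight b i)) := congrFun hs j
    rw [root'_fundCoweight b i ⟨j, hj⟩] at h1
    change 0 ≤ P.root' j (fundCoweight b' k)
    rw [← sign_nonneg_iff, h1, sign_nonneg_iff]
    split <;> norm_num)
  obtain ⟨m, hm⟩ : ∃ m : b.support, fundCoweight b m = fundCoweight b' k := ⟨m₀, hm₀⟩
  rw [← hm] at hs ⊢
  have h2 : SignType.sign (P.root' (m : ι) (fundCoweight b m)) =
      SignType.sign (P.root' (m : ι) (fundCoweight b i)) := congrFun hs m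
  rw [root'_fundCoweight b m m, root'_fundCoweight b i m, if_pos rfl, sign_one] at h2
  by_contra hne
  rw [if_neg (fun e => hne (by rw [e])), sign_zero] at h2
  exact one_ne_zero h2

lemma corr_iff (b : P.Base) (i : b.support) (x : N) :
    Corr P (fundWeight b i) x ↔ x = fundCoweight b i :=
  ⟨fun ⟨b', k, h1, h2⟩ => h2.symm.trans (fundCoweight_eq_of b' b k i h1),
    fun h => ⟨b, i, rfl, h.symm⟩⟩

omit [P.IsCrystallographic] [P.IsReduced] in
/-- Two dominant vectors with the same vanishing simple coroots lie in the same facet. -/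
lemma sgnVec_eq_of {b : P.Base} {ξ η : M} (hξ : ξ ∈ closedChamber b) (hη : η ∈ closedChamber b)
    (h : ∀ j : b.support, P.coroot' j ξ = 0 ↔ P.coroot' j η = 0) : sgnVec P ξ = sgnVec P η := by
  have key : ∀ ξ η : M, ξ ∈ closedChamber b → η ∈ closedChamber b →
      (∀ j : b.support, P.coroot' j ξ = 0 → P.coroot' j η = 0) →
      ∀ k, b.IsPos k → P.coroot' k ξ = 0 → P.coroot' k η = 0 := by
    intro ξ η hξ hη h k hk h0
    rw [repr_weights b ξ, map_sum] at h0
    have hz := (Finset.sum_eq_zero_iff_of_nonneg fun (q : b.support) _ => by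
      rw [map_smul, smul_eq_mul]
      exact mul_nonneg (hξ q q.2) (coroot'_fundWeight_nonneg b q hk)).1 h0
    rw [repr_weights b η, map_sum]
    refine Finset.sum_eq_zero fun q _ => ?_
    have := hz q (Finset.mem_univ q)
    rw [map_smul, smul_eq_mul, mul_eq_zero] at this ⊢
    exact this.imp_left (h q)
  have main : ∀ k, b.IsPos k → SignType.sign (P.coroot' k ξ) = SignType.sign (P.coroot' k η) := by
    intro k hk
    rcases (coroot'_nonneg b hξ hk).lt_or_eq with h1 | h1
    · rw [sign_pos h1, sign_pos]
      refine lt_of_le_of_ne (coroot'_nonneg b hη hk) fun e => h1.ne' ?_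
      exact key η ξ hη hξ (fun j => (h j).2) k hk e.symm
    · rw [← h1, key ξ η hξ hη (fun j => (h j).1) k hk h1.symm]
  funext k
  by_cases hk : b.IsPos k
  · exact main k hk
  · have h1 := main _ ((isPos_ng_iff b k).2 hk)
    rw [coroot'_ng, coroot'_ng, Left.sign_neg, Left.sign_neg, neg_inj] at h1
    exact h1

lemma mem_closure_iff {F : Facet P} {b : P.Base} (hb : b ∈ F.cham) (η : M) :
    η ∈ F.closure ↔ η ∈ closedChamber b ∧ ∀ j : b.support, F.sgn j = 0 → P.coroot' j η = 0 := by
  obtain ⟨ξ, hξ⟩ := F.exists_sgnVec_eq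
  constructor
  · intro h
    refine ⟨fun j hj => ?_, fun j h0 => ?_⟩
    · rcases h j with h1 | h1 <;>
        rw [← sign_nonneg_iff, show SignType.sign (P.coroot' j η) = _ from h1]
      rcases sgn_nonneg_of_cham hb ⟨j, hj⟩ with h2 | h2 <;> simp [h2]
    · rcases h j with h1 | h1
      · exact sign_eq_zero_iff.1 h1
      · exact sign_eq_zero_iff.1 (h1.trans h0)
  · rintro ⟨hη, hzero⟩
    have main : ∀ k, b.IsPos k → sgnVec P η k = 0 ∨ sgnVec P η k = F.sgn k := by
      intro k hk
      by_cases hk0 : F.sgn k = 0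
      · left
        have h0 := (sgn_eq_zero_iff hξ k).1 hk0
        rw [repr_weights b ξ, map_sum] at h0
        have hz := (Finset.sum_eq_zero_iff_of_nonneg fun (q : b.support) _ => by
          rw [map_smul, smul_eq_mul]
          exact mul_nonneg (hb hξ q q.2) (coroot'_fundWeight_nonneg b q hk)).1 h0
        refine sign_eq_zero_iff.2 ?_
        rw [repr_weights b η, map_sum]
        refine Finset.sum_eq_zero fun q _ => ?_
        have := hz q (Finset.mem_univ q)
        rw [map_smul, smul_eq_mul, mul_eq_zero] at this ⊢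
        exact this.imp_left fun h' => hzero q ((sgn_eq_zero_iff hξ q).2 h')
      · have hk1 : F.sgn k = 1 := by
          have := (cham_iff F b).1 hb k hk
          revert this hk0
          rcases (F.sgn k).trichotomy with h | h | h <;> simp [h]
        rcases (coroot'_nonneg b hη hk).lt_or_eq with h1 | h1
        · exact Or.inr ((sign_pos h1).trans hk1.symm)
        · exact Or.inl (sign_eq_zero_iff.2 h1.symm)
    intro k
    by_cases hk : b.IsPos k
    · exact main k hk
    · have h1 := main _ ((isPos_ng_iff b k).2 hk)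
      simp only [sgnVec, coroot'_ng, Left.sign_neg, sgn_ng, neg_inj] at h1
      refine h1.imp_left fun h2 => ?_
      change -(SignType.sign (P.coroot' k η)) = 0 at h2
      change SignType.sign (P.coroot' k η) = 0
      revert h2
      generalize SignType.sign (P.coroot' k η) = s
      cases s <;> decide

/-- The corners of a facet in terms of an adjacent chamber. -/
lemma corners_eq {F : Facet P} {b : P.Base} (hb : b ∈ F.cham) :
    F.corners = fundWeight b '' {i | F.sgn i ≠ 0} := by
  ext w
  constructor
  · rintro ⟨hw, hc⟩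
    obtain ⟨h1, h2⟩ := (mem_closure_iff hb w).1 hc
    obtain ⟨i, rfl⟩ : w ∈ Set.range (fundWeight b) := baseCorners_eq b ▸ ⟨hw, h1⟩
    refine ⟨i, fun h0 => ?_, rfl⟩
    have := h2 i h0
    rw [coroot'_fundWeight_self] at this
    exact one_ne_zero this
  · rintro ⟨i, hi, rfl⟩
    exact ⟨⟨b, i, rfl⟩, (mem_closure_iff hb _).2 ⟨fundWeight_mem_closedChamber b i, fun j h0 =>
      coroot'_fundWeight_of_ne b i j (fun e => hi (by rw [← e]; exact h0))⟩⟩

lemma fundWeight_mem_corners {F : Facet P} {b : P.Base} (hb : b ∈ F.cham) {i : b.support}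
    (hi : F.sgn i ≠ 0) : fundWeight b i ∈ F.corners :=
  corners_eq hb ▸ ⟨i, hi, rfl⟩

lemma corners_subset_baseCorners {F : Facet P} {b : P.Base} (hb : b ∈ F.cham) :
    F.corners ⊆ baseCorners b := by
  rw [corners_eq hb]
  rintro _ ⟨i, -, rfl⟩
  exact fundWeight_mem_baseCorners b i

lemma mem_carrier_iff {F : Facet P} {b : P.Base} (hb : b ∈ F.cham) (ξ : M) :
    ξ ∈ F.carrier ↔ ∀ j : b.support,
      (F.sgn j = 0 → P.coroot' j ξ = 0) ∧ (F.sgn j ≠ 0 → 0 < P.coroot' j ξ) := by
  constructor
  · intro hξ j
    refine ⟨(sgn_eq_zero_iff hξ j).1, fun h => lt_of_le_of_ne (hb hξ j j.2) fun e => h ?_⟩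
    exact (sgn_eq_zero_iff hξ j).2 e.symm
  · intro h
    obtain ⟨η, hη⟩ := F.exists_sgnVec_eq
    refine (sgnVec_eq_of (fun j hj => ?_) (hb hη) fun j => ?_).trans hη
    · by_cases h0 : F.sgn j = 0
      · exact ((h ⟨j, hj⟩).1 h0).ge
      · exact ((h ⟨j, hj⟩).2 h0).le
    · rw [← sgn_eq_zero_iff hη j]
      exact ⟨fun h0 => by_contra fun hn => ((h j).2 hn).ne' h0, (h j).1⟩

lemma mem_span_corners_iff {F : Facet P} {b : P.Base} (hb : b ∈ F.cham) (ξ : M) :
    ξ ∈ Submodule.span R F.corners ↔ ∀ j : b.support, F.sgn j = 0 → P.coroot' j ξ = 0 := by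
  constructor
  · intro h j hj
    have hle : Submodule.span R F.corners ≤ LinearMap.ker (P.coroot' j) :=
      Submodule.span_le.2 fun w hw => ((mem_closure_iff hb w).1 hw.2).2 j hj
    exact hle h
  · intro h
    rw [repr_weights b ξ]
    refine Submodule.sum_mem _ fun i _ => ?_
    by_cases hi : F.sgn i = 0
    · rw [h i hi, zero_smul]; exact Submodule.zero_mem _
    · exact Submodule.smul_mem _ _ (Submodule.subset_span (fundWeight_mem_corners hb hi))

lemma carrier_subset_span_corners (F : Facet P) :
    F.carrier ⊆ Submodule.span R F.corners := fun ξ hξ => by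
  obtain ⟨b, hb⟩ := exists_cham F
  exact (mem_span_corners_iff hb ξ).2 fun j => ((mem_carrier_iff hb ξ).1 hξ j).1

lemma span_carrier (F : Facet P) :
    Submodule.span R F.carrier = Submodule.span R F.corners := by
  classical
  refine le_antisymm (Submodule.span_le.2 (carrier_subset_span_corners F)) (Submodule.span_le.2 ?_)
  obtain ⟨b, hb⟩ := exists_cham F
  obtain ⟨η, hη⟩ := F.exists_sgnVec_eq
  rw [corners_eq hb]
  rintro _ ⟨i, hi, rfl⟩
  have h1 : η + fundWeight b i ∈ F.carrier := (mem_carrier_iff hb _).2 fun j => by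
    obtain ⟨h0, hp⟩ := (mem_carrier_iff hb η).1 hη j
    rw [map_add, coroot'_fundWeight]
    refine ⟨fun h => ?_, fun h => ?_⟩
    · rw [h0 h, if_neg (fun e => hi (by rw [← e]; exact h)), add_zero]
    · have := hp h
      split <;> linarith
  have h2 := Submodule.sub_mem _ (Submodule.subset_span (R := R) h1) (Submodule.subset_span hη)
  rwa [add_sub_cancel_left] at h2

end Groth.Agent.RootChLib
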