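import Groth.Agent.Lib.RootCh.Special

/-! Parabolic sets of roots are the sets attached to facets. -/

set_option autoImplicit false

open Module Set
open RootPairing RootCh

namespace Groth.Agent.RootChLib

universe u v w x

variable {ι : Type u} {R : Type v} {M : Type w} {N : Type x}
variable [Field R] [LinearOrder R] [IsStrictOrderedRing R]
variable [AddCommGroup M] [Module R M] [AddCommGroup N] [Module R N] [Finite ι]
variable {P : RootPairing ι R M N} [P.IsRootSystem] [P.IsCrystallographic] [P.IsReduced]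

omit [Finite ι] [P.IsRootSystem] [P.IsCrystallographic] [P.IsReduced] in
lemma sign_root' {F : Facet P} {y : N} (hy : y ∈ F.dualCarrier) (i : ι) :
    SignType.sign (P.root' i y) = F.sgn i := congrFun hy i

lemma isParabolicSubset_parab (F : Facet P) : IsParabolicSubset P F.parab := by
  obtain ⟨y, hy⟩ := exists_mem_dualCarrier F
  have key : ∀ i, i ∈ F.parab ↔ 0 ≤ P.root' i y := fun i => by
    rw [Facet.parab, Set.mem_setOf_eq, ← sign_root' hy i, ← not_lt,
      ← sign_eq_neg_one_iff]
  refine ⟨fun i j k hi hj h => ?_, fun i => ?_⟩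
  · rw [key] at hi hj ⊢
    change 0 ≤ P.toLinearMap (P.root k) y
    rw [h, map_add, LinearMap.add_apply]
    exact add_nonneg hi hj
  · rw [key, key]
    change _ ∨ 0 ≤ P.root' (ng P i) y
    rw [root'_ng, neg_nonneg]
    exact le_total _ _

/-- A facet with prescribed vanishing simple indices, adjacent to a given chamber. -/
lemma exists_facet (b : P.Base) (J : Set b.support) : ∃ G : Facet P, b ∈ G.cham ∧
    (∀ j : b.support, G.sgn j = 0 ↔ j ∈ J) ∧ G.corners = fundWeight b '' Jᶜ := by
  classical
  let ξ : M := ∑ i ∈ Finset.univ.filter (fun i : b.support => i ∉ J), fundWeight b i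
  have hξ : ∀ j : b.support, P.coroot' j ξ = if j ∈ J then 0 else 1 := by
    intro j
    rw [map_sum]
    simp only [coroot'_fundWeight, Finset.sum_ite_eq, Finset.mem_filter, Finset.mem_univ, true_and,
      ite_not]
  have hb : b ∈ (Facet.ofVec P ξ).cham := by
    refine (cham_iff _ b).2 fun i hi => (sgn_ne_neg_iff (F := Facet.ofVec P ξ) (ξ := ξ) rfl i).2
      (coroot'_nonneg b (fun j hj => ?_) hi)
    rw [hξ ⟨j, hj⟩]
    split <;> norm_num
  have hz : ∀ j : b.support, (Facet.ofVec P ξ).sgn j = 0 ↔ j ∈ J := fun j => by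
    rw [sgn_eq_zero_iff (F := Facet.ofVec P ξ) (ξ := ξ) rfl, hξ]
    split <;> simp_all
  refine ⟨_, hb, hz, ?_⟩
  rw [corners_eq hb]
  exact congrArg _ (Set.ext fun j => not_congr (hz j))

lemma exists_base_subset {S : Set ι} (hS : IsParabolicSubset P S) :
    ∃ b : P.Base, ∀ i, b.IsPos i → i ∈ S := by
  classical
  cases nonempty_fintype ι
  have := finite_base (P := P)
  cases nonempty_fintype P.Base
  obtain ⟨b₀⟩ : Nonempty P.Base := P.nonempty_base
  obtain ⟨b, -, hmax⟩ := Finset.exists_max_image (Finset.univ : Finset P.Base)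
    (fun b => (Finset.univ.filter fun i => b.IsPos i ∧ i ∈ S).card) ⟨b₀, Finset.mem_univ _⟩
  have hsimple : ∀ j ∈ b.support, j ∈ S := by
    intro j hj
    by_contra hjS
    obtain ⟨b', hb'⟩ := exists_reflect b hj
    have hng : ng P j ∈ S := (hS.2 j).resolve_left hjS
    refine not_lt.2 (hmax b' (Finset.mem_univ _)) (Finset.card_lt_card ⟨fun i hi => ?_, fun h => ?_⟩)
    · simp only [Finset.mem_filter, Finset.mem_univ, true_and] at hi ⊢
      exact ⟨(hb' i).2 (Or.inl ⟨hi.1, fun e => hjS (e ▸ hi.2)⟩), hi.2⟩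
    · have h' := @h (ng P j) (Finset.mem_filter.2 ⟨Finset.mem_univ _, (hb' _).2 (Or.inr rfl), hng⟩)
      exact (isPos_ng_iff b j).1 (Finset.mem_filter.1 h').2.1 (RootPairing.Base.isPos_of_mem_support hj)
  exact ⟨b, fun i hi => hi.induction_on_add (p := fun i => i ∈ S) hsimple
    fun p q r hr hp hq => hS.1 p q r hp (hsimple q hq) hr⟩

lemma exists_facet_parab {S : Set ι} (hS : IsParabolicSubset P S) :
    ∃ F : Facet P, F.parab = S := by
  obtain ⟨b, hbS⟩ := exists_base_subset hS
  obtain ⟨F, hb, hz, -⟩ := exists_facet b {j | ng P (j : ι) ∈ S}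
  obtain ⟨y, hy⟩ := exists_mem_dualCarrier F
  have hval : ∀ i, F.sgn i = 0 ↔ P.root' i y = 0 := fun i => by
    rw [← sign_root' hy i, sign_eq_zero_iff]
  have hnn : ∀ i, b.IsPos i → 0 ≤ P.root' i y := fun i hi => by
    rw [← not_lt, ← sign_eq_neg_one_iff, sign_root' hy i]
    exact (cham_iff F b).1 hb i hi
  have main : ∀ i, b.IsPos i → (F.sgn i = 0 ↔ ng P i ∈ S) := by
    intro i hi
    refine (hi.induction_on_add (p := fun i => b.IsPos i ∧ (F.sgn i = 0 ↔ ng P i ∈ S))
      (fun j hj => ⟨RootPairing.Base.isPos_of_mem_support hj, hz ⟨j, hj⟩⟩) ?_).2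
    rintro p q r hr ⟨hp, hpS⟩ hq
    have hqp := RootPairing.Base.isPos_of_mem_support hq
    have hqS : F.sgn q = 0 ↔ ng P q ∈ S := hz ⟨q, hq⟩
    refine ⟨hp.add hqp hr, fun h0 => ?_, fun h => ?_⟩
    · rw [hval] at h0
      have e : P.root' r y = P.root' p y + P.root' q y := by
        change P.toLinearMap (P.root r) y = P.toLinearMap (P.root p) y + P.toLinearMap (P.root q) y
        rw [hr, map_add, LinearMap.add_apply]
      have := hnn p hp
      have := hnn q hqp
      exact hS.1 _ _ _ (hpS.1 ((hval p).2 (by linarith))) (hqS.1 ((hval q).2 (by linarith)))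
        (by rw [root_ng, root_ng, root_ng, hr, neg_add])
    · have h1 := hpS.2 (hS.1 _ _ _ h (hbS q hqp) (by rw [root_ng, root_ng, hr]; abel))
      have h2 := hqS.2 (hS.1 _ _ _ h (hbS p hp) (by rw [root_ng, root_ng, hr]; abel))
      rw [hval] at h1 h2 ⊢
      change P.toLinearMap (P.root r) y = 0
      rw [hr, map_add, LinearMap.add_apply]
      change P.root' p y + P.root' q y = 0
      rw [h1, h2, add_zero]
  refine ⟨F, Set.ext fun i => ?_⟩
  by_cases hi : b.IsPos i
  · exact iff_of_true ((cham_iff F b).1 hb i hi) (hbS i hi)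
  · have hn := (isPos_ng_iff b i).2 hi
    have h := main _ hn
    rw [show ng P (ng P i) = i from P.root.injective (by rw [root_ng, root_ng, neg_neg]), sgn_ng] at h
    rw [← h, Facet.parab, Set.mem_setOf_eq]
    have hne := (cham_iff F b).1 hb _ hn
    rw [sgn_ng] at hne
    revert hne
    rcases (F.sgn i).trichotomy with a | a | a <;> simp [a]

/-- Corners are the fundamental weights whose coweights are non-negative on the parabolic set. -/
lemma corners_eq_parab (F : Facet P) : F.corners =
    {m : M | m ∈ fundWeights P ∧ ∀ y : N, Corr P m y → ∀ i ∈ F.parab, 0 ≤ P.root' i y} := by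
  obtain ⟨b, hb⟩ := exists_cham F
  ext m
  constructor
  · intro hm
    refine ⟨hm.1, ?_⟩
    rw [corners_eq hb] at hm
    obtain ⟨i, hi, rfl⟩ := hm
    intro y hy k hk
    rw [(corr_iff b i y).1 hy]
    by_cases hkp : b.IsPos k
    · exact root'_fundCoweight_nonneg b i hkp
    have hk0 : F.sgn k = 0 := by
      have := (cham_iff F b).1 hb _ ((isPos_ng_iff b k).2 hkp)
      rw [sgn_ng] at this
      revert this hk
      simp only [Facet.parab, Set.mem_setOf_eq]
      rcases (F.sgn k).trichotomy with a | a | a <;> simp [a]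
    obtain ⟨z, hz⟩ := exists_mem_dualCarrier F
    have hz0 : P.root' (ng P k) z = 0 := by
      rw [root'_ng, sign_eq_zero_iff.1 ((congrFun hz k).trans hk0), neg_zero]
    rw [root'_eq_sum_coweights b z] at hz0
    have hzero := (Finset.sum_eq_zero_iff_of_nonneg fun (q : b.support) _ => mul_nonneg
      (by
        rcases eq_or_ne (F.sgn q) 0 with h | h
        · exact (((mem_dualCarrier_iff hb z).1 hz q).1 h).ge
        · exact (((mem_dualCarrier_iff hb z).1 hz q).2 h).le)
      (root'_fundCoweight_nonneg b q ((isPos_ng_iff b k).2 hkp))).1 hz0 i (Finset.mem_univ i)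
    have := (mul_eq_zero.1 hzero).resolve_left (((mem_dualCarrier_iff hb z).1 hz i).2 hi).ne'
    rw [root'_ng, neg_eq_zero] at this
    exact this.ge
  · rintro ⟨⟨b', k, rfl⟩, h⟩
    have hc := h _ ⟨b', k, rfl, rfl⟩
    obtain ⟨i, hi⟩ := exists_eq_fundWeight (P := P.flip) b.flip b'.flip k fun j hj =>
      hc j ((cham_iff F b).1 hb j (RootPairing.Base.isPos_of_mem_support hj))
    obtain ⟨i, hi⟩ : ∃ i : b.support, fundCoweight b i = fundCoweight b' k := ⟨i, hi⟩
    have hw : fundWeight b i = fundWeight b' k :=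
      fundCoweight_eq_of (P := P.flip) b.flip b'.flip i k hi
    rw [← hw, corners_eq hb]
    refine ⟨i, fun h0 => ?_, rfl⟩
    have h2 := hc (ng P (i : ι)) (by rw [Facet.parab, Set.mem_setOf_eq, sgn_ng, h0]; decide)
    rw [← hi, root'_ng, root'_fundCoweight_self] at h2
    linarith

lemma carrier_eq_comb (F : Facet P) : F.carrier = {ξ : M | ∃ c : M →₀ R,
    (c.support : Set M) ⊆ F.corners ∧ (∀ m ∈ F.corners, 0 < c m) ∧ c.sum (fun m r => r • m) = ξ} := by
  classical
  obtain ⟨b, hb⟩ := exists_cham F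
  ext ξ
  constructor
  · intro hξ
    refine ⟨∑ i : b.support, Finsupp.single (fundWeight b i) (P.coroot' i ξ), fun m hm => ?_,
      fun m hm => ?_, ?_⟩
    · obtain ⟨i, -, hi⟩ := Finset.mem_biUnion.1 (Finsupp.support_finsetSum hm)
      obtain ⟨h1, h2⟩ := Finset.mem_inter.1 (by
        have h3 := Finsupp.support_single_subset hi
        exact Finset.mem_inter.2 ⟨h3, hi⟩ :
        m ∈ ({fundWeight b i} : Finset M) ∩ (Finsupp.single (fundWeight b i) (P.coroot' i ξ)).support)
      rw [Finset.mem_singleton] at h1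
      subst h1
      refine fundWeight_mem_corners hb fun h0 => ?_
      rw [Finsupp.mem_support_iff, Finsupp.single_eq_same] at h2
      exact h2 (((mem_carrier_iff hb ξ).1 hξ i).1 h0)
    · rw [corners_eq hb] at hm
      obtain ⟨i, hi, rfl⟩ := hm
      rw [Finsupp.finsetSum_apply, Finset.sum_eq_single i]
      · rw [Finsupp.single_eq_same]; exact ((mem_carrier_iff hb ξ).1 hξ i).2 hi
      · exact fun j _ hj => Finsupp.single_eq_of_ne fun e => hj (fundWeight_injective b e).symm
      · simp
    · rw [← Finsupp.sum_finsetSum_index (fun m => zero_smul R m) (fun m r s => add_smul r s m)]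
      simp only [Finsupp.sum_single_index, zero_smul]
      exact (repr_weights b ξ).symm
  · rintro ⟨c, hc, hpos, rfl⟩
    refine (mem_carrier_iff hb _).2 fun j => ?_
    have hval : P.coroot' j (c.sum fun m r => r • m) = c.sum fun m r => r * P.coroot' j m := by
      simp [Finsupp.sum, map_sum]
    have hterm : ∀ m ∈ c.support, m ≠ fundWeight b j → P.coroot' j m = 0 := by
      intro m hm hne
      have hm' := hc hm
      rw [corners_eq hb] at hm'
      obtain ⟨i, -, rfl⟩ := hm'
      exact coroot'_fundWeight_of_ne b i j fun e => hne (by rw [e])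
    rw [hval, Finsupp.sum, Finset.sum_eq_single (fundWeight b j)
      (fun m hm hne => by rw [hterm m hm hne, mul_zero])
      (fun h => by rw [Finsupp.notMem_support_iff.1 h, zero_mul]), coroot'_fundWeight_self, mul_one]
    refine ⟨fun h0 => Finsupp.notMem_support_iff.1 fun hmem => ?_,
      fun h0 => hpos _ (fundWeight_mem_corners hb h0)⟩
    have := hc hmem
    rw [corners_eq hb] at this
    obtain ⟨i, hi, he⟩ := this
    exact hi (by rw [fundWeight_injective b he]; exact h0)

lemma facet_eq_of_corners {F G : Facet P} (h : F.corners = G.corners) : F = G := by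
  obtain ⟨ξ, hξ⟩ := F.exists_sgnVec_eq
  have hξF : ξ ∈ F.carrier := hξ
  have hξG : ξ ∈ G.carrier := by
    rw [carrier_eq_comb, h, ← carrier_eq_comb] at hξF
    exact hξF
  exact Facet.ext (hξ.symm.trans hξG)

lemma semistable_iff {d : P.Base → N} (hd : IsCCS d) :
    IsSemistable d ↔ ∀ b : P.Base, ∀ m ∈ baseCorners b, P.toLinearMap m (d b) ≤ 0 := by
  unfold IsSemistable
  rw [mem_solid_iff hd]
  simp

lemma deg_nonpos {d : P.Base → N} (hd : IsCCS d) (h : IsSemistable d) (F : Facet P) (b : P.Base)
    (hb : b ∈ F.cham) : F.deg d b ≤ 0 := by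
  rw [deg_eq]
  exact (dominant_le_solid hd b (hb (sum_parab_mem_carrier F)) h).trans_eq (map_zero _)

lemma semistable_of_dim_one {d : P.Base → N} (hd : IsCCS d)
    (h : ∀ (F : Facet P) (b : P.Base), F.dim = 1 → b ∈ F.cham → F.deg d b ≤ 0) :
    IsSemistable d := by
  rw [semistable_iff hd]
  intro b m hm
  rw [baseCorners_eq b] at hm
  obtain ⟨i, rfl⟩ := hm
  obtain ⟨F, hb, hz, hc⟩ := exists_facet b {i}ᶜ
  have hdim : F.dim = 1 := by
    rw [Facet.dim, span_carrier, hc, compl_compl, Set.image_singleton]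
    exact finrank_span_singleton (fundWeight_ne_zero b i)
  have hv := sum_parab_mem_carrier F
  have hdeg := h F b hdim hb
  rw [deg_eq, repr_weights b (∑ k ∈ (Set.toFinite F.parab).toFinset, P.root k), map_sum,
    LinearMap.sum_apply, Finset.sum_eq_single i (fun j _ hj => by
      rw [((mem_carrier_iff hb _).1 hv j).1 ((hz j).2 hj), zero_smul, map_zero, LinearMap.zero_apply])
      (by simp), map_smul, LinearMap.smul_apply, smul_eq_mul] at hdeg
  exact nonpos_of_mul_nonpos_right hdeg
    (((mem_carrier_iff hb _).1 hv i).2 fun h0 => (hz i).1 h0 rfl)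

end Groth.Agent.RootChLib
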