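import Groth.Agent.Lib.RootCh.CCS

/-! Dual facets, sums of roots over parabolic sets, special facets. -/

set_option autoImplicit false

open Module Set
open RootPairing RootCh

namespace Groth.Agent.RootChLib

universe u v w x

variable {ι : Type u} {R : Type v} {M : Type w} {N : Type x}
variable [Field R] [LinearOrder R] [IsStrictOrderedRing R]
variable [AddCommGroup M] [Module R M] [AddCommGroup N] [Module R N] [Finite ι]
variable {P : RootPairing ι R M N} [P.IsRootSystem] [P.IsCrystallographic] [P.IsReduced]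

lemma exists_mem_dualCarrier (F : Facet P) : ∃ y, y ∈ F.dualCarrier := by
  obtain ⟨e, q, hq, -, he⟩ := exists_pol P
  obtain ⟨ξ, hξ⟩ := F.exists_sgnVec_eq
  refine ⟨e ξ, ?_⟩
  rw [Facet.dualCarrier, Set.mem_setOf_eq, ← hξ]
  funext i
  change SignType.sign (P.root' i (e ξ)) = SignType.sign (P.coroot' i ξ)
  rw [he i ξ, sign_mul, sign_pos (hq i), one_mul]

/-- The facet of the dual root system with the same signs. -/
noncomputable def dualFacet (F : Facet P) : Facet P.flip := ⟨F.sgn, exists_mem_dualCarrier F⟩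

lemma flip_mem_cham {F : Facet P} {b : P.Base} (hb : b ∈ F.cham) :
    b.flip ∈ (dualFacet F).cham :=
  (cham_iff (P := P.flip) (dualFacet F) b.flip).2 fun i hi =>
    (cham_iff F b).1 hb i ((isPos_flip_iff b i).1 hi)

lemma mem_dualCarrier_iff {F : Facet P} {b : P.Base} (hb : b ∈ F.cham) (y : N) :
    y ∈ F.dualCarrier ↔ ∀ j : b.support,
      (F.sgn j = 0 → P.root' j y = 0) ∧ (F.sgn j ≠ 0 → 0 < P.root' j y) :=
  mem_carrier_iff (P := P.flip) (flip_mem_cham hb) y

lemma dualCorners_eq {F : Facet P} {b : P.Base} (hb : b ∈ F.cham) :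
    F.dualCorners = fundCoweight b '' {i | F.sgn i ≠ 0} :=
  corners_eq (P := P.flip) (flip_mem_cham hb)

lemma root'_eq_zero_of_mem_span {F : Facet P} {y : N}
    (hy : y ∈ Submodule.span R F.dualCarrier) {i : ι} (hi : F.sgn i = 0) : P.root' i y = 0 := by
  have hle : Submodule.span R F.dualCarrier ≤ LinearMap.ker (P.root' i) :=
    Submodule.span_le.2 fun z hz => sign_eq_zero_iff.1 ((congrFun hz i).trans hi)
  exact hle hy

lemma root'_eq_sum_coweights (b : P.Base) (y : N) (k : ι) :
    P.root' k y = ∑ j : b.support, P.root' j y * P.root' k (fundCoweight b j) := by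
  conv_lhs => rw [repr_coweights b y, map_sum]
  exact Finset.sum_congr rfl fun j _ => by rw [map_smul, smul_eq_mul]

omit [P.IsRootSystem] [P.IsReduced] in
lemma sum_pairing_eq_zero {T : Finset ι} {j : ι} (h : ∀ i ∈ T, P.reflectionPerm j i ∈ T) :
    ∑ i ∈ T, P.pairing i j = 0 := by
  have h1 : ∑ i ∈ T, P.pairing i j = ∑ i ∈ T, -P.pairing i j := by
    refine Finset.sum_nbij' (P.reflectionPerm j) (P.reflectionPerm j) h h
      (fun i _ => P.reflectionPerm_self j i) (fun i _ => P.reflectionPerm_self j i) fun i _ => ?_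
    change P.pairing i j = -P.toLinearMap (P.root (P.reflectionPerm j i)) (P.coroot j)
    rw [P.root_reflectionPerm, P.reflection_apply, map_sub, LinearMap.sub_apply, map_smul,
      LinearMap.smul_apply, smul_eq_mul]
    change P.pairing i j = -(P.pairing i j - P.pairing i j * P.pairing j j)
    rw [P.pairing_same]
    ring
  rw [Finset.sum_neg_distrib] at h1
  linarith

lemma coroot'_sum_root (s : Finset ι) (j : ι) :
    P.coroot' j (∑ i ∈ s, P.root i) = ∑ i ∈ s, P.pairing i j := by
  rw [map_sum]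
  rfl

lemma sgn_reflectionPerm {F : Facet P} {j : ι} (hj : F.sgn j = 0) (i : ι) :
    F.sgn (P.reflectionPerm j i) = F.sgn i := by
  obtain ⟨y, hy⟩ := exists_mem_dualCarrier F
  have h0 : P.root' j y = 0 := sign_eq_zero_iff.1 ((congrFun hy j).trans hj)
  rw [← (congrFun hy (P.reflectionPerm j i) : SignType.sign _ = _),
    ← (congrFun hy i : SignType.sign _ = _)]
  refine congrArg SignType.sign ?_
  change P.toLinearMap (P.root (P.reflectionPerm j i)) y = P.toLinearMap (P.root i) y
  rw [P.root_reflectionPerm, P.reflection_apply, map_sub, LinearMap.sub_apply, map_smul,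
    LinearMap.smul_apply, show P.toLinearMap (P.root j) y = 0 from h0, smul_zero, sub_zero]

/-- The sum of the roots of the parabolic set of a facet lies in the facet. -/
lemma sum_parab_mem_carrier (F : Facet P) :
    (∑ i ∈ (Set.toFinite F.parab).toFinset, P.root i) ∈ F.carrier := by
  classical
  cases nonempty_fintype ι
  obtain ⟨b, hb⟩ := exists_cham F
  set A := Finset.univ.filter fun i => b.IsPos i with hA
  set L := Finset.univ.filter fun i => b.IsPos i ∧ F.sgn i = 0 with hL
  have hset : (Set.toFinite F.parab).toFinset = A ∪ L.image (ng P) := by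
    ext i
    simp only [Set.Finite.mem_toFinset, Facet.parab, Set.mem_setOf_eq, Finset.mem_union, hA, hL,
      Finset.mem_filter, Finset.mem_univ, true_and, Finset.mem_image]
    constructor
    · intro h
      by_cases hp : b.IsPos i
      · exact Or.inl hp
      refine Or.inr ⟨ng P i, ⟨(isPos_ng_iff b i).2 hp, ?_⟩,
        P.root.injective (by rw [root_ng, root_ng, neg_neg])⟩
      have := (cham_iff F b).1 hb _ ((isPos_ng_iff b i).2 hp)
      rw [sgn_ng] at this ⊢
      revert h this
      rcases (F.sgn i).trichotomy with e | e | e <;> simp [e]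
    · rintro (h | ⟨k, ⟨-, hk⟩, rfl⟩)
      · exact (cham_iff F b).1 hb i h
      · rw [sgn_ng, hk]; decide
  have hdisj : Disjoint A (L.image (ng P)) := by
    rw [Finset.disjoint_left]
    intro i hi hi'
    obtain ⟨k, hk, rfl⟩ := Finset.mem_image.1 hi'
    exact (isPos_ng_iff b k).1 (Finset.mem_filter.1 hi).2 (Finset.mem_filter.1 hk).2.1
  have hv : ∀ j, P.coroot' j (∑ i ∈ (Set.toFinite F.parab).toFinset, P.root i) =
      ∑ i ∈ A, P.pairing i j - ∑ i ∈ L, P.pairing i j := by
    intro j
    rw [coroot'_sum_root, hset, Finset.sum_union hdisj, Finset.sum_image fun a _ c _ h => by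
      have := congrArg P.root h
      rw [root_ng, root_ng, neg_inj] at this
      exact P.root.injective this, sub_eq_add_neg, ← Finset.sum_neg_distrib]
    refine congrArg _ (Finset.sum_congr rfl fun i _ => ?_)
    change P.toLinearMap (P.root (ng P i)) (P.coroot j) = _
    rw [root_ng, map_neg]
    rfl
  have h2 : ∀ j ∈ b.support, ∑ i ∈ A, P.pairing i j = 2 := by
    intro j hj
    have hjA : j ∈ A := by simp [hA, RootPairing.Base.isPos_of_mem_support hj]
    rw [← Finset.add_sum_erase A _ hjA, sum_pairing_eq_zero, P.pairing_same, add_zero]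
    intro i hi
    simp only [Finset.mem_erase, hA, Finset.mem_filter, Finset.mem_univ, true_and] at hi ⊢
    refine ⟨fun e => ?_, hi.2.reflectionPerm hj hi.1⟩
    have : i = ng P j := by rw [← P.reflectionPerm_self j i, e]
    exact (isPos_ng_iff b j).1 (this ▸ hi.2) (RootPairing.Base.isPos_of_mem_support hj)
  refine (mem_carrier_iff hb _).2 fun j => ⟨fun hj => ?_, fun hj => ?_⟩
  · rw [hv, h2 j j.2]
    have hjL : (j : ι) ∈ L := by simp [hL, RootPairing.Base.isPos_of_mem_support j.2, hj]
    rw [← Finset.add_sum_erase L _ hjL, sum_pairing_eq_zero, P.pairing_same, add_zero, sub_self]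
    intro i hi
    simp only [Finset.mem_erase, hL, Finset.mem_filter, Finset.mem_univ, true_and] at hi ⊢
    refine ⟨fun e => ?_, hi.2.1.reflectionPerm j.2 hi.1, (sgn_reflectionPerm hj i).trans hi.2.2⟩
    have : i = ng P (j : ι) := by rw [← P.reflectionPerm_self j i, e]
    exact (isPos_ng_iff b (j : ι)).1 (this ▸ hi.2.1) (RootPairing.Base.isPos_of_mem_support j.2)
  · rw [hv, h2 j j.2]
    suffices ∑ i ∈ L, P.pairing i j ≤ 0 by linarith
    refine Finset.sum_nonpos fun i hi => ?_
    obtain ⟨hip, hi0⟩ := (Finset.mem_filter.1 hi).2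
    obtain ⟨y, hy⟩ := exists_mem_dualCarrier F
    have hnn : ∀ k, b.IsPos k → 0 ≤ P.root' k y := fun k hk =>
      root'_nonneg b (fun l hl => by
        rcases eq_or_ne (F.sgn l) 0 with h | h
        · exact (((mem_dualCarrier_iff hb y).1 hy ⟨l, hl⟩).1 h).ge
        · exact (((mem_dualCarrier_iff hb y).1 hy ⟨l, hl⟩).2 h).le) hk
    suffices H : ∀ k, b.IsPos k → P.root' k y = 0 → P.pairing k j ≤ 0 from
      H i hip (sign_eq_zero_iff.1 ((congrFun hy i).trans hi0))
    intro k hk
    have hsimple : ∀ l ∈ b.support, P.root' l y = 0 → P.pairing l j ≤ 0 := fun l hl h0 => by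
      have hne : l ≠ j := fun e => (((mem_dualCarrier_iff hb y).1 hy j).2 hj).ne' (e ▸ h0)
      rw [← P.algebraMap_pairingIn ℤ, eq_intCast]
      exact_mod_cast b.pairingIn_le_zero_of_ne hne hl j.2
    refine (hk.induction_on_add (p := fun k => b.IsPos k ∧ (P.root' k y = 0 → P.pairing k j ≤ 0))
      (fun l hl => ⟨RootPairing.Base.isPos_of_mem_support hl, hsimple l hl⟩) ?_).2
    rintro p q r hr ⟨hp, hpy⟩ hq
    have hrpos := hp.add (RootPairing.Base.isPos_of_mem_support hq) hr
    refine ⟨hrpos, fun h0 => ?_⟩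
    have e1 : P.root' r y = P.root' p y + P.root' q y := by
      change P.toLinearMap (P.root r) y = P.toLinearMap (P.root p) y + P.toLinearMap (P.root q) y
      rw [hr, map_add, LinearMap.add_apply]
    have e2 : P.pairing r j = P.pairing p j + P.pairing q j := by
      change P.toLinearMap (P.root r) _ = P.toLinearMap (P.root p) _ + P.toLinearMap (P.root q) _
      rw [hr, map_add, LinearMap.add_apply]
    have := hnn p hp
    have := hnn q (RootPairing.Base.isPos_of_mem_support hq)
    have := hpy (by linarith)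
    have := hsimple q hq (by linarith)
    linarith

lemma mem_Psi_iff {F : Facet P} {b : P.Base} (hb : b ∈ F.cham) {i : b.support}
    (_hi : F.sgn i ≠ 0) (k : ι) :
    k ∈ F.Psi (fundWeight b i) ↔ P.root' k (fundCoweight b i) = 1 ∧
      ∀ l : b.support, F.sgn l ≠ 0 → l ≠ i → P.root' k (fundCoweight b l) = 0 := by
  constructor
  · rintro ⟨h1, h2⟩
    exact ⟨h1 _ ((corr_iff b i _).2 rfl), fun l hl hne => h2 _ (fundWeight_mem_corners hb hl)
      (fun e => hne (fundWeight_injective b e)) _ ((corr_iff b l _).2 rfl)⟩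
  · rintro ⟨h1, h2⟩
    refine ⟨fun x hx => by rw [(corr_iff b i x).1 hx]; exact h1, fun w hw hne x hx => ?_⟩
    rw [corners_eq hb] at hw
    obtain ⟨l, hl, rfl⟩ := hw
    rw [(corr_iff b l x).1 hx]
    exact h2 l hl fun e => hne (by rw [e])

lemma sum_psi_mem_span (F : Facet P) {m : M} (hm : m ∈ F.corners) :
    (∑ i ∈ (Set.toFinite (F.Psi m)).toFinset, P.root i) ∈ Submodule.span R F.corners := by
  classical
  obtain ⟨b, hb⟩ := exists_cham F
  rw [corners_eq hb] at hm
  obtain ⟨i, hi, rfl⟩ := hm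
  refine (mem_span_corners_iff hb _).2 fun j hj => ?_
  rw [coroot'_sum_root, sum_pairing_eq_zero]
  intro k hk
  rw [Set.Finite.mem_toFinset, mem_Psi_iff hb hi] at hk ⊢
  have key : ∀ l : b.support, F.sgn l ≠ 0 →
      P.root' (P.reflectionPerm j k) (fundCoweight b l) = P.root' k (fundCoweight b l) := by
    intro l hl
    have h0 : P.root' j (fundCoweight b l) = 0 :=
      root'_fundCoweight_of_ne b l j fun e => hl (by rw [← e]; exact hj)
    change P.toLinearMap (P.root (P.reflectionPerm j k)) _ = P.toLinearMap (P.root k) _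
    rw [P.root_reflectionPerm, P.reflection_apply, map_sub, LinearMap.sub_apply, map_smul,
      LinearMap.smul_apply, show P.toLinearMap (P.root j) (fundCoweight b l) = 0 from h0,
      smul_zero, sub_zero]
  exact ⟨(key i hi).trans hk.1, fun l hl hne => (key l hl).trans (hk.2 l hl hne)⟩

variable {d : P.Base → N}

omit [P.IsCrystallographic] [P.IsReduced] in
lemma deg_eq (F : Facet P) (b : P.Base) :
    F.deg d b = P.toLinearMap (∑ i ∈ (Set.toFinite F.parab).toFinset, P.root i) (d b) := by
  rw [Facet.deg, map_sum, LinearMap.sum_apply]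

omit [P.IsCrystallographic] [P.IsReduced] in
lemma numInv_eq (F : Facet P) (m : M) (b : P.Base) :
    F.numInv d m b = P.toLinearMap (∑ i ∈ (Set.toFinite (F.Psi m)).toFinset, P.root i) (d b) := by
  rw [Facet.numInv, map_sum, LinearMap.sum_apply]

lemma parab_ext {F G : Facet P} (h : F.parab = G.parab) : F = G := by
  ext i
  have h1 := Set.ext_iff.1 h i
  have h2 := Set.ext_iff.1 h (ng P i)
  simp only [Facet.parab, Set.mem_setOf_eq, sgn_ng] at h1 h2
  revert h1 h2
  rcases (F.sgn i).trichotomy with a | a | a <;> rcases (G.sgn i).trichotomy with c | c | c <;>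
    simp [a, c]

lemma le_iff_parab {F G : Facet P} : F ≤ G ↔ F.parab ⊆ G.parab := by
  refine ⟨fun h i hi => ?_, fun h i => ?_⟩
  · rcases h i with e | e
    · simp [Facet.parab, e]
    · simpa [Facet.parab, e] using hi
  · have h1 := @h i
    have h2 := @h (ng P i)
    simp only [Facet.parab, Set.mem_setOf_eq, sgn_ng] at h1 h2
    revert h1 h2
    rcases (F.sgn i).trichotomy with a | a | a <;> rcases (G.sgn i).trichotomy with c | c | c <;>
      simp [a, c]

/-- The functional attached to a vector by an invariant form. -/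
lemma exists_form_vec (B : LinearMap.BilinForm R N) (hBs : ∀ y z : N, B y z = B z y)
    (hBp : ∀ y : N, y ≠ 0 → 0 < B y y)
    (hBi : ∀ (i : ι) (y z : N), B (P.coreflection i y) (P.coreflection i z) = B y z) (y : N) :
    ∃ ξ : M, (∀ z, P.toLinearMap ξ z = B y z) ∧ sgnVec P ξ = cosgnVec P y := by
  obtain ⟨ξ, hξ⟩ : ∃ ξ : M, ∀ z, P.toLinearMap ξ z = B y z :=
    ⟨P.toPerfPair.symm (B y), fun z => LinearMap.congr_fun (P.toLinearMap.apply_symm_toPerfPair_self _) z⟩
  refine ⟨ξ, hξ, funext fun i => ?_⟩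
  have h2 := hBi i y (P.coroot i)
  rw [P.coreflection_apply_self, P.coreflection_apply] at h2
  simp only [map_neg, map_sub, map_smul, LinearMap.sub_apply, LinearMap.smul_apply, smul_eq_mul] at h2
  have hpos : 0 < B (P.coroot i) (P.coroot i) := hBp _ (P.flip.ne_zero i)
  have h3 : P.root' i y * (B (P.coroot i) (P.coroot i) / 2) = B y (P.coroot i) := by linarith
  change SignType.sign (P.toLinearMap ξ (P.coroot i)) = SignType.sign (P.root' i y)
  rw [hξ, ← h3, sign_mul, sign_pos (half_pos hpos), mul_one]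

omit [P.IsCrystallographic] [P.IsReduced] in
/-- An invariant scalar product on the coroot side. -/
lemma exists_invariant_form : ∃ B : LinearMap.BilinForm R N, (∀ y z : N, B y z = B z y) ∧
    (∀ y : N, y ≠ 0 → 0 < B y y) ∧
    ∀ (i : ι) (y z : N), B (P.coreflection i y) (P.coreflection i z) = B y z := by
  cases nonempty_fintype ι
  refine ⟨P.flip.RootForm, fun y z => P.flip.rootForm_symmetric.eq y z,
    fun y hy => P.flip.rootForm_pos_of_ne_zero ?_ hy,
    fun i y z => P.flip.rootForm_reflection_reflection_apply i y z⟩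
  rw [RootPairing.rootSpan, RootPairing.IsRootSystem.span_root_eq_top]
  exact Submodule.mem_top

section Form

variable (B : LinearMap.BilinForm R N) (hBs : ∀ y z : N, B y z = B z y)
  (hBp : ∀ y : N, y ≠ 0 → 0 < B y y)
  (hBi : ∀ (i : ι) (y z : N), B (P.coreflection i y) (P.coreflection i z) = B y z)

include hBs hBp hBi in
lemma yLocus_subsingleton {F : Facet P} {y y' : N} (hy : y ∈ yLocus d F) (hy' : y' ∈ yLocus d F) :
    y = y' := by
  obtain ⟨b, hb⟩ := exists_cham F
  by_contra hne
  obtain ⟨ξ, hξ, hs⟩ := exists_form_vec B hBs hBp hBi (y - y')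
  have hmem : ξ ∈ Submodule.span R F.corners := (mem_span_corners_iff hb ξ).2 fun j hj => by
    have h1 : SignType.sign (P.coroot' j ξ) = SignType.sign (P.root' j (y - y')) := congrFun hs j
    rw [root'_eq_zero_of_mem_span (Submodule.sub_mem _ hy.2 hy'.2) hj, sign_zero,
      sign_eq_zero_iff] at h1
    exact h1
  have h0 : P.toLinearMap ξ (y - y') = 0 := by
    have hle : Submodule.span R F.corners ≤ LinearMap.ker (P.toLinearMap.flip (y - y')) :=
      Submodule.span_le.2 fun m hm => by
        have e1 := (Set.mem_iInter₂.1 hy.1) m hm b (corners_subset_baseCorners hb hm)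
        have e2 := (Set.mem_iInter₂.1 hy'.1) m hm b (corners_subset_baseCorners hb hm)
        change P.toLinearMap m (y - y') = 0
        rw [map_sub, e1, e2, sub_self]
    exact hle hmem
  rw [hξ] at h0
  exact (hBp _ (sub_ne_zero.2 hne)).ne' h0

include hBs hBp hBi in
lemma special_minimal (hd : IsCCS d) {F : Facet P} {y : N} (hy : y ∈ F.dualCarrier)
    (hy' : y ∈ dualSolid d F) :
    y ∈ solid d ∧ ∀ x ∈ solid d, x ≠ y → B y y < B x x := by
  refine ⟨dualSolid_subset_solid F hy', fun x hx hne => ?_⟩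
  obtain ⟨b, hb⟩ := exists_cham F
  obtain ⟨ξ, hξ, hs⟩ := exists_form_vec B hBs hBp hBi y
  have hξF : ξ ∈ F.carrier := hs.trans hy
  have h1 := dominant_le_solid hd b (hb hξF) hx
  rw [← pairing_eq_of_mem_dualSolid hd hb hy' (carrier_subset_span_corners F hξF), hξ, hξ] at h1
  have h2 := hBp (x - y) (sub_ne_zero.2 hne)
  simp only [map_sub, LinearMap.sub_apply] at h2
  rw [hBs x y] at h2
  linarith

include hBs hBp hBi in
lemma mem_dualSolid_of_isMin (hd : IsCCS d) {y₀ : N} (hy₀ : y₀ ∈ solid d)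
    (hmin : ∀ y ∈ solid d, B y₀ y₀ ≤ B y y) {F : Facet P} (hF : y₀ ∈ F.dualCarrier) :
    y₀ ∈ dualSolid d F := by
  obtain ⟨b, hb⟩ := exists_cham F
  obtain ⟨ξ, hξ, hs⟩ := exists_form_vec B hBs hBp hBi y₀
  have hξF : ξ ∈ F.carrier := hs.trans hF
  have hle : ∀ x ∈ solid d, B y₀ y₀ ≤ B y₀ x := by
    intro x hx
    by_contra hlt
    push Not at hlt
    have hne : x - y₀ ≠ 0 := fun e => by rw [sub_eq_zero.1 e] at hlt; exact lt_irrefl _ hlt
    have hD := hBp _ hne
    set D := B (x - y₀) (x - y₀) with hDdef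
    obtain ⟨s, hs0, hs1, hsD⟩ : ∃ s : R, 0 < s ∧ s ≤ 1 ∧ s * D < 2 * (B y₀ y₀ - B y₀ x) := by
      refine ⟨min 1 ((B y₀ y₀ - B y₀ x) / D), lt_min one_pos (div_pos (by linarith) hD),
        min_le_left _ _, ?_⟩
      have := mul_le_mul_of_nonneg_right (min_le_right 1 ((B y₀ y₀ - B y₀ x) / D)) hD.le
      rw [div_mul_cancel₀ _ hD.ne'] at this
      linarith
    have hz : (1 - s) • y₀ + s • x ∈ solid d :=
      (convex_convexHull R _) hy₀ hx (by linarith) hs0.le (by ring)
    have h := hmin _ hz
    have hexp : B ((1 - s) • y₀ + s • x) ((1 - s) • y₀ + s • x) =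
        B y₀ y₀ + 2 * s * (B y₀ x - B y₀ y₀) + s * s * D := by
      simp only [hDdef, map_add, map_smul, map_sub, LinearMap.add_apply, LinearMap.smul_apply,
        LinearMap.sub_apply, smul_eq_mul, hBs x y₀]
      ring
    rw [hexp] at h
    nlinarith [mul_pos hs0 (by linarith : (0 : R) < 2 * (B y₀ y₀ - B y₀ x) - s * D)]
  have hterm : ∀ i : b.support, F.sgn i ≠ 0 →
      P.toLinearMap (fundWeight b i) y₀ = P.toLinearMap (fundWeight b i) (d b) := by
    have h1 : P.toLinearMap ξ y₀ = P.toLinearMap ξ (d b) := by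
      refine le_antisymm ?_ (dominant_le_solid hd b (hb hξF) hy₀)
      rw [hξ, hξ]
      exact hle _ (subset_convexHull R _ ⟨b, rfl⟩)
    rw [repr_weights b ξ, map_sum, LinearMap.sum_apply, LinearMap.sum_apply] at h1
    simp only [map_smul, LinearMap.smul_apply, smul_eq_mul] at h1
    intro i hi
    have h2 := (Finset.sum_eq_sum_iff_of_le fun (k : b.support) _ =>
      mul_le_mul_of_nonneg_left ((mem_solid_iff hd y₀).1 hy₀ b _ (fundWeight_mem_baseCorners b k))
        (hb hξF k k.2)).1 h1.symm i (Finset.mem_univ i)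
    exact (mul_left_cancel₀ (((mem_carrier_iff hb ξ).1 hξF i).2 hi).ne' h2).symm
  rw [dualSolid_eq hd F]
  simp only [Set.mem_inter_iff, Set.mem_iInter]
  refine ⟨fun m hm c hc => ?_, fun m _ c hc => (mem_solid_iff hd y₀).1 hy₀ c m hc⟩
  rw [← hd.corner_eq b c m (corners_subset_baseCorners hb hm) hc]
  rw [corners_eq hb] at hm
  obtain ⟨i, hi, rfl⟩ := hm
  exact hterm i hi

end Form

lemma mem_yLocus_of_mem (hd : IsCCS d) {F : Facet P} {y : N} (hy : y ∈ dualSolid d F)
    (hy' : y ∈ Submodule.span R F.dualCarrier) : y ∈ yLocus d F := by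
  rw [dualSolid_eq hd F] at hy
  exact ⟨hy.1, hy'⟩

lemma exists_special (hd : IsCCS d) : ∃ F : Facet P, IsSpecial d F := by
  classical
  have := finite_base (P := P)
  cases nonempty_fintype P.Base
  obtain ⟨b₀⟩ : Nonempty P.Base := P.nonempty_base
  obtain ⟨B, hBs, hBp, hBi⟩ := exists_invariant_form (P := P)
  obtain ⟨y₀, hy₀, hmin⟩ := exists_min_on_convexHull B hBs hBp (Finset.univ.image d)
    ⟨d b₀, Finset.mem_image.2 ⟨b₀, Finset.mem_univ _, rfl⟩⟩
  rw [Finset.coe_image, Finset.coe_univ, Set.image_univ] at hy₀ hmin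
  obtain ⟨ξ, -, hs⟩ := exists_form_vec B hBs hBp hBi y₀
  exact ⟨Facet.ofVec P ξ, y₀, hs.symm,
    mem_dualSolid_of_isMin B hBs hBp hBi hd hy₀ hmin hs.symm⟩

lemma special_unique (hd : IsCCS d) {F G : Facet P} (hF : IsSpecial d F) (hG : IsSpecial d G) :
    F = G := by
  obtain ⟨y, hy, hy'⟩ := hF
  obtain ⟨z, hz, hz'⟩ := hG
  obtain ⟨B, hBs, hBp, hBi⟩ := exists_invariant_form (P := P)
  obtain ⟨h1, h2⟩ := special_minimal B hBs hBp hBi hd hy hy'
  obtain ⟨h3, h4⟩ := special_minimal B hBs hBp hBi hd hz hz'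
  have : y = z := by_contra fun hne => by
    have := h2 z h3 (Ne.symm hne)
    have := h4 y h1 hne
    linarith
  subst this
  exact Facet.ext ((hy : _ = _).symm.trans hz)

lemma deg_eq_of_cham (hd : IsCCS d) (F : Facet P) {b b' : P.Base} (hb : b ∈ F.cham)
    (hb' : b' ∈ F.cham) : F.deg d b = F.deg d b' := by
  rw [deg_eq, deg_eq]
  exact pairing_eq_of_mem_span_corners hd hb hb'
    (carrier_subset_span_corners F (sum_parab_mem_carrier F))

lemma special_deg (hd : IsCCS d) {F : Facet P} {b : P.Base} (hb : b ∈ F.cham)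
    (hF : IsSpecial d F) (G : Facet P) {c : P.Base} (hc : c ∈ G.cham) :
    G.deg d c ≤ F.deg d b ∧ (G.deg d c = F.deg d b → G ≤ F) := by
  classical
  obtain ⟨y, hy, hy'⟩ := hF
  have hFy : F.deg d b = ∑ i ∈ (Set.toFinite F.parab).toFinset, P.root' i y := by
    rw [deg_eq, ← pairing_eq_of_mem_dualSolid hd hb hy'
      (carrier_subset_span_corners F (sum_parab_mem_carrier F)), map_sum, LinearMap.sum_apply]
  have hGy : G.deg d c ≤ ∑ i ∈ (Set.toFinite G.parab).toFinset, P.root' i y := by
    rw [deg_eq]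
    refine (dominant_le_solid hd c (hc (sum_parab_mem_carrier G))
      (dualSolid_subset_solid F hy')).trans_eq ?_
    rw [map_sum, LinearMap.sum_apply]
  have hsgn : ∀ i, SignType.sign (P.root' i y) = F.sgn i := fun i => congrFun hy i
  have hnn : ∀ i ∈ (Set.toFinite F.parab).toFinset, 0 ≤ P.root' i y := fun i hi => by
    rw [Set.Finite.mem_toFinset, Facet.parab, Set.mem_setOf_eq, ← hsgn] at hi
    rwa [← not_lt, ← sign_eq_neg_one_iff]
  have hneg : ∀ i, i ∉ (Set.toFinite F.parab).toFinset → P.root' i y < 0 := fun i hi => by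
    rw [Set.Finite.mem_toFinset, Facet.parab, Set.mem_setOf_eq, ← hsgn, not_not] at hi
    exact sign_eq_neg_one_iff.1 hi
  set A := (Set.toFinite F.parab).toFinset with hA
  set C := (Set.toFinite G.parab).toFinset with hC
  have hsplit : ∑ i ∈ C, P.root' i y = ∑ i ∈ C ∩ A, P.root' i y + ∑ i ∈ C \ A, P.root' i y :=
    (Finset.sum_inter_add_sum_sdiff C A _).symm
  have h1 : ∑ i ∈ C ∩ A, P.root' i y ≤ ∑ i ∈ A, P.root' i y :=
    Finset.sum_le_sum_of_subset_of_nonneg Finset.inter_subset_right fun i hi _ => hnn i hi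
  have h2 : ∑ i ∈ C \ A, P.root' i y ≤ 0 :=
    Finset.sum_nonpos fun i hi => (hneg i (Finset.mem_sdiff.1 hi).2).le
  refine ⟨by linarith, fun he => le_iff_parab.2 fun i hi => ?_⟩
  by_contra hiA
  have : ∑ i ∈ C \ A, P.root' i y < 0 := Finset.sum_neg
    (fun k hk => hneg k (Finset.mem_sdiff.1 hk).2)
    ⟨i, Finset.mem_sdiff.2 ⟨by simpa [hC] using hi, by simpa [hA] using hiA⟩⟩
  linarith

end Groth.Agent.RootChLib
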